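import Cfsg.Agent.SPOR.B43.Desc

/-!
The representation of degree 4371 of the Baby Monster.
-/

set_option autoImplicit false

namespace CL.B43

open Cfsg Cfsg.Spor Module Submodule

variable {F : Type*} [Field F] {V : Type*} [AddCommGroup V] [Module F V] {V' : Type*} [AddCommGroup V']
  [Module F V'] [FiniteDimensional F V] [FiniteDimensional F V']

namespace BG

variable {K : Type*} [Group K] {z t j q r g : K} {P J : Subgroup K} {R : leechLattice → K → Prop}
  {A : Co0 → K → Prop} {ρ : Representation F K V} {ρ' : Representation F K V'}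
  (B : BG z t j q r g P J R A) [Finite K] (h2 : (2 : F) ≠ 0) (ht : ρ t = 1) (hz : ρ z ≠ 1)
  (hd : finrank F V ≤ 4371)
include B h2 ht hz hd

theorem irr : Irr ρ := fun W hW => by
  by_contra! hn
  have h1 : ρ.subrepresentation W hW z = 1 := by_contra fun n => by
    have := B.dim_min h2 (LinearMap.ext fun v => Subtype.ext (LinearMap.congr_fun ht v.1)) n
    have := finrank_lt hn.2
    omega
  have h3 : ρ.quotient W hW z = 1 := by_contra fun n => by
    have := B.dim_min h2 (LinearMap.ext fun v => by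
      obtain ⟨v, rfl⟩ := Submodule.Quotient.mk_surjective W v
      exact congrArg Submodule.Quotient.mk (LinearMap.congr_fun ht v)) n
    have := W.finrank_quotient_add_finrank
    have := (finrank_eq_zero (S := W)).not.2 hn.1
    omega
  refine hz (LinearMap.ext fun v => sub_eq_zero.1 (eq_zero_of_neg h2 ?_))
  have h4 : ρ z (ρ z v - v) = ρ z v - v := congrArg Subtype.val (LinearMap.congr_fun h1
    ⟨_, (Submodule.Quotient.eq W).1 (LinearMap.congr_fun h3 (Submodule.Quotient.mk v))⟩)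
  rw [map_sub, ← rmul, B.z_sq, rone] at h4
  exact h4.symm.trans (neg_sub _ _).symm

theorem equiv (ht' : ρ' t = 1) (hz' : ρ' z ≠ 1) (hd' : finrank F V' ≤ 4371) :
    ∃ e : V ≃ₗ[F] V', ∀ x w, e (ρ x w) = ρ' x (e w) := by
  obtain ⟨p, M⟩ := B.exists_rp h2 ht hz hd
  obtain ⟨p', M'⟩ := B.exists_rp h2 ht' hz' hd'
  obtain ⟨a0, ha0, hA⟩ := B.ex_a sT (sg_mem _) sT_u
  obtain ⟨Γ, h1, h3, h4⟩ := B.glue h2 M M' ha0 hA hd hd'
  exact goursat (B.irr h2 ht hz hd) (B.irr h2 ht' hz' hd') h1 M.ne M'.ne h3 h4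

end BG

theorem main {n : ℕ} (hn : n ≤ 4371) (h2 : (2 : F) ≠ 0) (ρ : BabyMonster →* GL (Fin n) F) (hρ : Function.Injective ρ) :
    (∀ W : Submodule F (Fin n → F), (∀ g : BabyMonster, ∀ v ∈ W,
      (ρ g : Matrix (Fin n) (Fin n) F).mulVec v ∈ W) → W = ⊥ ∨ W = ⊤) ∧
    ∀ ρ' : BabyMonster →* GL (Fin n) F, Function.Injective ρ' →
      ∃ P : GL (Fin n) F, ∀ g : BabyMonster, ρ' g = P * ρ g * P⁻¹ := by
  obtain ⟨K, _, _, z, t, j, q, r, P, J, R, A, B, π, hπ, h1, h3⟩ := exists_bt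
  have B : BG z t j q r _ P J R A := ⟨B, rfl⟩
  let σ (ρ : BabyMonster →* GL (Fin n) F) : Representation F K (Fin n → F) :=
    Matrix.toLinAlgEquiv'.toMonoidHom.comp ((Units.coeHom _).comp (ρ.comp π))
  have hσ : ∀ ρ x v, σ ρ x v = (ρ (π x) : Matrix (Fin n) (Fin n) F).mulVec v := fun _ _ _ =>
    Matrix.toLinAlgEquiv'_apply _ _
  have ht : ∀ ρ, σ ρ t = 1 := fun ρ => LinearMap.ext fun v => by simp [hσ, h1]
  have hz : ∀ ρ : BabyMonster →* GL (Fin n) F, Function.Injective ρ → σ ρ z ≠ 1 := fun ρ h e =>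
    h3 (h (Units.ext ((Matrix.toLinAlgEquiv'.injective (e.trans (map_one _).symm)).trans (by simp))))
  have hd : finrank F (Fin n → F) ≤ 4371 := by simpa using hn
  refine ⟨fun W hW => B.irr h2 (ht ρ) (hz ρ hρ) hd W fun x => hW (π x), fun ρ' h' => ?_⟩
  obtain ⟨e, he⟩ := B.equiv h2 (ht ρ) (hz ρ hρ) hd (ht ρ') (hz ρ' h') hd
  refine ⟨Matrix.GeneralLinearGroup.toLin.symm (LinearMap.GeneralLinearGroup.ofLinearEquiv e),
    fun x => eq_mul_inv_of_mul_eq ?_⟩
  obtain ⟨x, rfl⟩ := hπ x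
  refine Matrix.GeneralLinearGroup.toLin.injective (Units.ext (LinearMap.ext fun v => ?_))
  rw [map_mul, map_mul, MulEquiv.apply_symm_apply]
  exact (he x v).symm

end CL.B43
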