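import Cfsg.Agent.SPOR.B43.Lat3
import Cfsg.Agent.SPOR.Y5.BIso
import Cfsg.Agent.SPOR.Y5.OutB

/-!
The local structure of the double cover of the Baby Monster in element form.
-/

set_option autoImplicit false

namespace CL.B43

open Cfsg Cfsg.Spor CL.Leech CL.MT CL.LX CL.MSS CL.Y5 MulAction

local notation "Λ" => leechLattice
local notation "u" => leechU

/-- the local structure -/
structure BT {K : Type*} [Group K] (z t j q r : K) (P J : Subgroup K) (R : Λ → K → Prop)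
    (A : Co0 → K → Prop) : Prop where
  R_mem : ∀ {v x}, R v x → x ∈ P
  R_ev : ∀ {v x}, R v x → Ev u v
  ex_v : ∀ x ∈ P, ∃ v, R v x
  ex_x : ∀ v, Ev u v → ∃ x, R v x
  R_mul : ∀ {v w x y}, R v x → R w y → R (v + w) (x * y)
  R_cong : ∀ {v w x}, R v x → R w x → Cong v w
  R_z : R 0 z
  R_t : R u t
  R_j : R (e8 none) j
  z_sq : z * z = 1
  j_sq : j * j = 1
  j_ne : j ≠ z
  comm_iff : ∀ {v w x y}, R v x → R w y → (x * y = y * x ↔ Ev v w)
  comm : ∀ x ∈ P, ∀ y ∈ P, x * y = y * x ∨ x * y = y * x * z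
  sq : ∀ x ∈ P, x * x = 1 ∨ x * x = z
  R_conj : ∀ {k c v x}, A k c → R v x → R (k • v) (c * x * c⁻¹)
  cases : ∀ {v w x y}, R v x → R w y → Cong v w → y = x ∨ y = x * z
  A_fix : ∀ {k c}, A k c → k • u = u
  A_comm : ∀ {k c}, A k c → c * z = z * c
  ex_g : ∀ c, c * z = z * c → ∃ k, A k c
  ex_c : ∀ k, k • u = u → ∃ c, A k c
  A_mul : ∀ {k k' c c'}, A k c → A k' c' → A (k * k') (c * c')
  A_inv : ∀ {k c}, A k c → A k⁻¹ c⁻¹
  A_ker : ∀ {k c}, A k c → (c ∈ P ↔ k = 1)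
  A_of : ∀ {c}, c ∈ P → A 1 c
  dual : ∀ N ≤ P, z ∈ N → ∀ y ∈ P, y ∉ N →
    ∃ x, (∀ v a, R v a → a ∈ N → Ev x v) ∧ ∀ v, R v y → ¬ Ev x v
  q_mem : q ∈ P
  q_j : q * j * q⁻¹ = j * z
  r_mem : r ∈ J
  r_z : r * z * r⁻¹ = z * j
  mem_J : ∀ {x}, x ∈ J ↔ (q * r * q⁻¹)⁻¹ * x * (q * r * q⁻¹) ∈ P
  lift : ∀ {k a}, a ∈ J → A k a → k ∈ Sgn
  ex_a : ∀ k ∈ Sgn, k • u = u → ∃ a ∈ J, A k a
  R44 : ∀ {i i' b}, i ≠ i' → R (v44 i i' 4 4 rfl rfl) b → b ∈ J
  gen : ∀ L : Subgroup K, (∀ c, c * z = z * c → c ∈ L) → q * r * q⁻¹ ∈ L → L = ⊤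

theorem bt_of {G : Type*} [Group G] [Finite G] {z : G} {Q : Subgroup G} {R : Λ → G → Prop}
    {A : Co0 → G → Prop} (h : MT z Q R A) {t : G} (hv : R u t) {H : Subgroup G}
    (hH : H ≤ Subgroup.centralizer {t})
    (hC : Subgroup.centralizer {z} ⊓ Subgroup.centralizer {t} ≤ H) {g : G} (hg : g ∈ H)
    (hs : R (e8 none) (g * z * g⁻¹))
    (hgen : H ≤ (Subgroup.centralizer {z} ⊓ H) ⊔ (Subgroup.centralizer {g * z * g⁻¹} ⊓ H)) :
    ∃ (z' t' j q r : H) (P J : Subgroup H) (R' : _) (A' : _), BT z' t' j q r P J R' A' ∧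
      (z' : G) = z ∧ (t' : G) = t := by
  have ct : ∀ {a : G}, a ∈ H → a * t = t * a := fun a => Subgroup.mem_centralizer_singleton_iff.1 (hH a)
  have hin : ∀ {c : G}, c * z = z * c → c * t = t * c → c ∈ H := fun a b =>
    hC ⟨Subgroup.mem_centralizer_singleton_iff.2 a, Subgroup.mem_centralizer_singleton_iff.2 b⟩
  have E := h.lx.toES
  have tQ := h.R_mem hv
  have jQ := h.R_mem hs
  have tt : t * t = 1 := (h.sq_iff hv).2 (by rw [sqNorm_U])
  have hR : ∀ {v x}, R v x → (x ∈ H ↔ Ev u v) := fun e =>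
    ⟨fun a => (h.comm_iff hv e).1 (ct a).symm,
      fun a => hin (E.z_comm _ (h.R_mem e)) ((h.comm_iff hv e).2 a).symm⟩
  have zR : R 0 z := by simpa using h.R_z h.R_zero
  have jz := (h.ne_of_norm hs (sqNorm_e8 _).le (by rw [sqNorm_e8]; norm_num)).2
  have zJ := h.lx.symm_of_card h.eight_lt jQ
  have EJ := h.lx.conj g
  have tJ : t ∈ g •ᶜ Q := mem_cj.2 (by rwa [mul_assoc, ← ct hg, inv_mul_cancel_left])
  obtain ⟨q, hq⟩ := h.ex_x x1
  have qj := E.conj_eq_of_not_comm jQ (h.R_mem hq) fun e => x1_odd ((h.comm_iff hq hs).1 e.symm)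
  have qH := (hR hq).2 (ev_of_mem x1_mem)
  obtain ⟨y, hy, y1, y2⟩ := E.exists_centralizes_not_comm (K := Subgroup.closure {z, t})
    ((Subgroup.closure_le _).2 (by rintro _ (rfl | rfl); exacts [E.z_mem, tQ]))
    (Subgroup.subset_closure (by simp)) (mem_cj.1 zJ) fun e => by
      have c : IsConj z (g⁻¹ * z * g) := isConj_iff.2 ⟨g⁻¹, by simp⟩
      rcases (mem_closure_four E.z_sq tt (E.z_comm t tQ).symm).1 e with e | e | e | e
      · exact E.z_ne (by simpa [e] using c)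
      · exact jz (by nth_rw 1 [← e]; group)
      · exact h.not_conj_of_32 hv sqNorm_U (e ▸ c)
      · exact not_conj_zt h hv sqNorm_U (e ▸ c)
  have yH : y ∈ H := hin (E.z_comm y hy) (y1 t (Subgroup.subset_closure (by simp))).symm
  have rz : g * y * g⁻¹ * z * (g * y * g⁻¹)⁻¹ = z * (g * z * g⁻¹) := by
    have := congrArg (fun x => g * x * g⁻¹) (E.conj_eq_of_not_comm (mem_cj.1 zJ) hy y2)
    simpa [mul_assoc] using this
  have rH := mul_mem (mul_mem hg yH) (inv_mem hg)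
  have rJ : g * y * g⁻¹ ∈ g •ᶜ Q := conj_mem_cj hy
  generalize g * y * g⁻¹ = r at rz rH rJ
  have gz : q * r * q⁻¹ * z * (q * r * q⁻¹)⁻¹ = g * z * g⁻¹ := by
    have c : q⁻¹ * z * q = z := by rw [mul_assoc, ← E.z_comm q (h.R_mem hq), inv_mul_cancel_left]
    calc _ = q * (r * (q⁻¹ * z * q) * r⁻¹) * q⁻¹ := by group
      _ = q * z * q⁻¹ * (q * (g * z * g⁻¹) * q⁻¹) := by rw [c, rz]; group
      _ = _ := by
        rw [qj, E.z_comm q (h.R_mem hq), mul_inv_cancel_right, E.z_comm _ jQ, ← mul_assoc, E.z_sq,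
          one_mul]
  have L := h.lifts_e8 hs
  have cJ := h.lx.cj_eq gz
  refine ⟨⟨z, (hR zR).2 (ev_comm.1 ev_zero)⟩, ⟨t, (hR hv).2 ev_uu⟩, ⟨_, (hR hs).2 (ev_ue _)⟩, ⟨q, qH⟩,
    ⟨r, rH⟩, Q.subgroupOf H, (g •ᶜ Q).subgroupOf H, fun v x => R v x,
    fun k c => A k c ∧ k • u = u, ⟨h.R_mem, fun e => (hR e).1 (Subtype.prop _),
      fun x hx => h.ex_v x hx, fun v e => let ⟨x, hx⟩ := h.ex_x v; ⟨⟨x, (hR hx).2 e⟩, hx⟩, h.R_mul,
      h.cong_of, zR, hv, hs, Subtype.ext E.z_sq, Subtype.ext EJ.z_sq,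
      fun e => jz (congrArg Subtype.val e), fun a b => Subtype.ext_iff.trans (h.comm_iff a b),
      fun x a y b => (E.comm x a y b).imp Subtype.ext Subtype.ext,
      fun x a => (E.sq x a).imp Subtype.ext Subtype.ext, fun a b => h.R_conj a.1 b,
      fun a b c => ((h.R_cong a b).1 c).imp Subtype.ext Subtype.ext, fun a => a.2,
      fun a => Subtype.ext (h.A_comm a.1), fun c e => ?_, fun k e => ?_,
      fun a b => ⟨h.A_mul a.1 b.1, by rw [mul_smul, b.2, a.2]⟩,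
      fun a => ⟨h.A_inv a.1, inv_smul_eq_iff.2 a.2.symm⟩, fun {k c} a => ?_,
      fun a => ⟨h.A_one a, one_smul _ _⟩, fun N hN zN y a b => ?_, h.R_mem hq, Subtype.ext qj, rJ,
      Subtype.ext rz, fun {x} => ?_, fun a b => L ▸ ⟨_, a, b.1⟩, fun k a b => ?_, fun {i i' b} a e => ?_,
      fun L a b => ?_⟩, rfl, rfl⟩
  · obtain ⟨k, a, b⟩ := exists_stab h hv (congrArg Subtype.val e) (ct c.2)
    exact ⟨k, b, a⟩
  · obtain ⟨c, a, b⟩ := exists_cent h hv e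
    exact ⟨⟨c, hin (h.A_comm a) b⟩, a, e⟩
  · refine (h.A_ker a.1).trans ⟨fun e => (MT.mem_center_iff.1 e).resolve_right fun e => ?_,
      fun e => e ▸ one_mem _⟩
    have := a.2
    rw [e, neg1_smul] at this
    exact absurd this (by decide +kernel)
  · obtain ⟨w, w1, w2, w3⟩ := E.exists_centralizes_not_comm (K := N.map H.subtype)
      (by rintro _ ⟨x, hx, rfl⟩; exact hN hx) ⟨_, zN, rfl⟩ a
      fun ⟨x, hx, e⟩ => b ((Subtype.ext e : x = y) ▸ hx)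
    obtain ⟨x, hx⟩ := h.ex_v w w1
    exact ⟨x, fun v a e e' => (h.comm_iff hx e).1 (w2 _ ⟨a, e', rfl⟩).symm,
      fun v e e' => w3 ((h.comm_iff hx e).2 e').symm⟩
  · show (x : G) ∈ g •ᶜ Q ↔ _
    rw [← cJ]; exact mem_cj
  · obtain ⟨c, c1, c2⟩ : k ∈ h.lifts (g •ᶜ Q) := L ▸ a
    refine ⟨⟨c, hin (h.A_comm c2) (mul_inv_eq_iff_eq_mul.1 ?_)⟩, c1, c2, b⟩
    have := h.R_conj c2 hv
    rw [b] at this
    refine (h.cases_of hv this).resolve_right fun e => ?_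
    rcases EJ.conj_cases tJ c1 with e' | e' <;> rw [e] at e'
    exacts [E.z_ne (mul_eq_left.1 e'), jz (mul_left_cancel e').symm]
  · obtain ⟨⟨n, hn⟩, e'⟩ := v44_mem_orbit a (b := 4) rfl (Or.inl rfl)
    obtain ⟨c, c1, c2⟩ := h.exists_conj_eq (g := n) hs hs (show n ∈ St _ from St_e8 none ▸ hn) EJ.z_ne jz
    have m := EJ.norm c (mul_inv_eq_iff_eq_mul.1 c2) t tJ
    have := h.R_conj c1 hv
    rw [show n • u = _ from e'] at this
    show (b : G) ∈ g •ᶜ Q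
    rcases h.cases_of this e with e | e <;> rw [e]
    exacts [m, mul_mem m zJ]
  · refine eq_top_iff.2 fun x _ => ?_
    obtain ⟨y, hy, e⟩ : (x : G) ∈ L.map H.subtype := by
      refine (hgen.trans (sup_le (fun c hc => ⟨⟨c, hc.2⟩, a _ (Subtype.ext
        (Subgroup.mem_centralizer_singleton_iff.1 hc.1)), rfl⟩) fun c hc => ⟨⟨c, hc.2⟩, ?_, rfl⟩) :
          H ≤ L.map H.subtype) x.2
      have e := Subgroup.mem_centralizer_singleton_iff.1 hc.1
      rw [← gz] at e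
      have key : ∀ y : H, (y : G) = q * r * q⁻¹ → y ∈ L → (⟨c, hc.2⟩ : H) ∈ L := fun y e' b => by
        have := mul_mem (mul_mem b (a (y⁻¹ * ⟨c, hc.2⟩ * y) (Subtype.ext (by
          simpa [mul_assoc, e'] using congrArg (fun x => (q * r * q⁻¹)⁻¹ * x * (q * r * q⁻¹)) e))))
          (inv_mem b)
        simpa [mul_assoc] using this
      exact key _ rfl b
    exact (Subtype.ext e : y = x) ▸ hy

theorem exists_bt : ∃ (K : Type) (_ : Group K) (_ : Finite K) (z t j q r : K) (P J : Subgroup K)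
    (R : _) (A : _), BT z t j q r P J R A ∧ ∃ π : K →* BabyMonster, Function.Surjective π ∧
      π t = 1 ∧ π z ≠ 1 := by
  obtain ⟨G, _, _, z, Q, R, A, h⟩ := exists_mt
  obtain ⟨R, A, τ, L, p, g, H⟩ := exists_base h
  obtain ⟨d, Y, -⟩ := H.exists_YS
  obtain ⟨N, _, h1, ⟨e⟩⟩ := H.exists_iso Y
  obtain ⟨z', Q', R', A', M, k1, k2, k3, k4, c, k5, k6, k7, k8⟩ := H.exists_B Y
  obtain ⟨R', A', M, a, b⟩ := norm_B M k1 k2 k3 (Subgroup.mem_centralizer_singleton_iff.1 (Y.HB_le k5))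
    k6 k7
  obtain ⟨z, t, j, q, r, P, J, R, A, B, rfl, e2⟩ := bt_of M a Y.HB_le k4 k5 b k8
  refine ⟨_, _, inferInstance, z, t, j, q, r, P, J, R, A, B,
    e.symm.toMonoidHom.comp (QuotientGroup.mk' N),
    e.symm.surjective.comp (QuotientGroup.mk'_surjective N), ?_, fun e' => ?_⟩
  · exact (MulEquiv.map_eq_one_iff e.symm).2 ((QuotientGroup.eq_one_iff _).2
      ((h1 t).2 (e2 ▸ Subgroup.mem_zpowers _)))
  · rcases (mem_zpowers_of_sq Y.t0_sq).1 ((h1 z).1 ((QuotientGroup.eq_one_iff _).1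
      ((MulEquiv.map_eq_one_iff e.symm).1 e'))) with e | e
    exacts [M.lx.z_ne e, k3 (e ▸ IsConj.refl _)]

end CL.B43
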