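import Cfsg.Agent.SPOR.B43.Glue2
import Cfsg.Agent.SPOR.MO.Main

/-!
A real representation with a rational form can be reduced to any field of characteristic not two.
-/

set_option autoImplicit false

namespace CL.B43

open Module Submodule

theorem li_of_rat {W : Type*} [AddCommGroup W] [Module ℝ W] (B : LinearMap.BilinForm ℝ W)
    (hp : ∀ v, v ≠ 0 → 0 < B v v) {ι : Type*} [Fintype ι] {b : ι → W} (hb : LinearIndependent ℤ b)
    (hq : ∀ i j, ∃ q : ℚ, B (b i) (b j) = q) : LinearIndependent ℝ b := by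
  let _ : Module ℚ W := Module.compHom W (algebraMap ℚ ℝ)
  have hb' : LinearIndependent ℚ b := (LinearIndependent.iff_fractionRing ℤ ℚ).1 hb
  choose G hG using hq
  refine Fintype.linearIndependent_iff.2 fun c hc i => ?_
  refine (Module.forall_dual_apply_eq_zero_iff ℚ (c i)).1 fun φ => ?_
  refine Fintype.linearIndependent_iff.1 hb' (fun i => φ (c i)) (by_contra fun n => (hp _ n).ne' ?_) i
  have k : ∀ j, B (∑ i, φ (c i) • b i) (b j) = 0 := fun j => by
    have h1 := congrArg (fun v => φ (B v (b j))) hc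
    simp only [map_sum, map_smul, LinearMap.sum_apply, LinearMap.smul_apply, hG, smul_eq_mul, map_zero,
      LinearMap.zero_apply] at h1
    have h2 : ∀ i, φ (c i * G i j) = φ (c i) * G i j := fun i => by
      rw [mul_comm, ← Rat.smul_def, map_smul, smul_eq_mul, mul_comm]
    have h3 : ∀ i, φ (c i) • b i = (φ (c i) : ℝ) • b i := fun i => rfl
    simp only [h2] at h1
    simp only [h3, map_sum, map_smul, LinearMap.sum_apply, LinearMap.smul_apply, hG, smul_eq_mul]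
    exact_mod_cast h1
  have h3 : ∀ i, φ (c i) • b i = (φ (c i) : ℝ) • b i := fun i => rfl
  nth_rw 2 [Finset.sum_congr rfl fun i _ => h3 i]
  simp only [map_sum (B _), map_smul (B _), k, smul_zero, Finset.sum_const_zero]

theorem descend {G W : Type*} [Group G] [Finite G] [IsSimpleGroup G] [AddCommGroup W] [Module ℝ W]
    [FiniteDimensional ℝ W] (ρ : Representation ℝ G W) (B : LinearMap.BilinForm ℝ W)
    (hp : ∀ v, v ≠ 0 → 0 < B v v) {w : W} (hq : ∀ g h, ∃ q : ℚ, B (ρ g w) (ρ h w) = q) {g : G}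
    (hg : ρ g w ≠ w) {x : G} (hx : x * x = 1) (hx' : x ≠ 1) {n : ℕ} (hn : finrank ℝ W ≤ n)
    (F : Type*) [Field F] (h2 : (2 : F) ≠ 0) : ∃ f : G →* GL (Fin n) F, Function.Injective f := by
  let L := span ℤ (Set.range fun g => ρ g w)
  have : Module.Finite ℤ L := Module.Finite.span_of_finite ℤ (Set.finite_range _)
  have : IsAddTorsionFree W := .of_isTorsionFree ℝ W
  have : Module.Free ℤ L := Module.free_of_finite_type_torsion_free'
  have hL : ∀ g, ∀ v ∈ L, ρ g v ∈ L := fun g => (span_le (p := L.comap ((ρ g).restrictScalars ℤ))).2 (by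
    rintro _ ⟨h, rfl⟩
    exact subset_span ⟨g * h, rmul _ _ _ _⟩)
  let σ : Representation ℤ G L :=
    { toFun := fun g => ((ρ g).restrictScalars ℤ).restrict (hL g)
      map_one' := LinearMap.ext fun v => Subtype.ext (rone _ _)
      map_mul' := fun g h => LinearMap.ext fun v => Subtype.ext (rmul _ _ _ _) }
  let b := Module.finBasis ℤ L
  have hq' : ∀ v ∈ L, ∀ v' ∈ L, ∃ q : ℚ, B v v' = q := fun v hv v' hv' =>
    span_induction₂ (R := ℤ) (p := fun v v' _ _ => ∃ q : ℚ, B v v' = q)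
      (by rintro _ _ ⟨g, rfl⟩ ⟨h, rfl⟩; exact hq g h) (fun _ _ => ⟨0, by simp⟩) (fun _ _ => ⟨0, by simp⟩)
      (fun _ _ _ _ _ _ ⟨a, ha⟩ ⟨b, hb⟩ => ⟨a + b, by simp [ha, hb]⟩)
      (fun _ _ _ _ _ _ ⟨a, ha⟩ ⟨b, hb⟩ => ⟨a + b, by simp [ha, hb]⟩)
      (fun r _ _ _ _ ⟨a, ha⟩ => ⟨(r : ℚ) * a, by simp [ha]⟩)
      (fun r _ _ _ _ ⟨a, ha⟩ => ⟨(r : ℚ) * a, by simp [ha]⟩) hv hv'
  have hr : finrank ℤ L ≤ n := by
    simpa using (li_of_rat B hp (b.linearIndependent.map' L.subtype L.ker_subtype)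
      fun i j => hq' _ (b i).2 _ (b j).2).fintype_card_le_finrank.trans hn
  let M := (LinearMap.toMatrixAlgEquiv b).toMonoidHom.comp σ
  have h1 : M x ≠ 1 := fun e => hx' (Subgroup.mem_bot.1 ((M.normal_ker.eq_bot_or_eq_top.resolve_right
    fun e => hg (congrArg Subtype.val (LinearMap.congr_fun ((LinearMap.toMatrixAlgEquiv b).injective
      ((show g ∈ M.ker from e ▸ Subgroup.mem_top g).trans (map_one _).symm) : σ g = 1)
        ⟨w, subset_span ⟨1, rone _ _⟩⟩))).le e))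
  let τ : Representation F G (Fin (finrank ℤ L) → F) :=
    Matrix.toLinAlgEquiv'.toMonoidHom.comp ((Int.castRingHom F).mapMatrix.toMonoidHom.comp M)
  have h3 : τ x ≠ 1 := fun e => by
    have e1 : (Int.castRingHom F).mapMatrix (M x) = 1 :=
      Matrix.toLinAlgEquiv'.injective (e.trans (map_one _).symm)
    have e2 : (M x + 1).det ≠ 0 := fun e' => by
      have := (Int.castRingHom F).map_det (M x + 1)
      rw [e', map_zero, map_add, e1, map_one, ← two_smul F, Matrix.det_smul, Matrix.det_one, mul_one] at this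
      exact pow_ne_zero _ h2 this.symm
    have e3 : (M x - 1) * (M x + 1) = 0 := by
      rw [sub_mul, mul_add, ← map_mul, hx, map_one, mul_one, one_mul, add_comm, sub_self]
    have := congrArg (· * (M x + 1).adjugate) e3
    simp only [mul_assoc, Matrix.mul_adjugate, zero_mul, Matrix.mul_smul, mul_one] at this
    exact h1 (sub_eq_zero.1 ((smul_eq_zero.1 this).resolve_left e2))
  obtain ⟨τ', h⟩ := MORed.pad τ (m := n) (by simpa using hr) h3
  exact ⟨τ'.toHomUnits, (MonoidHom.ker_eq_bot_iff _).1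
    (τ'.toHomUnits.normal_ker.eq_bot_or_eq_top.resolve_right fun e => h
      (congrArg Units.val (show x ∈ τ'.toHomUnits.ker from e ▸ Subgroup.mem_top x)))⟩

open Cfsg Cfsg.Spor Cfsg.Axial CL.MO CL.Maj in
theorem simple_baby : IsSimpleGroup BabyMonster :=
  let ⟨e⟩ := Y5.iso_BBm P0
  have := (isB_BBm P0).1
  e.isSimpleGroup

open Cfsg Cfsg.Spor Cfsg.Axial CL.MO CL.Maj in
theorem exists_rep (F : Type*) [Field F] (h2 : (2 : F) ≠ 0) :
    ∃ f : BabyMonster →* GL (Fin 4371) F, Function.Injective f := by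
  have hcov := Y5.cover_DD (P := P0) t0_mem
  obtain ⟨e⟩ := hcov.2.1
  have := simple_baby
  obtain ⟨e'⟩ := Y5.iso_BBm P0
  have hc : Nat.card BabyMonster = _ := (Nat.card_congr e'.toEquiv).trans (card_BBm P0)
  have : Finite BabyMonster := Nat.finite_of_card_ne_zero (by rw [hc]; norm_num)
  have : Fact (Nat.Prime 2) := ⟨Nat.prime_two⟩
  obtain ⟨x, hx⟩ := exists_prime_orderOf_dvd_card' (G := BabyMonster) 2 (by rw [hc]; norm_num)
  let ρ := (Row.rep P0).comp (Subgroup.centralizer ({t0 P0} : Set (GG P0))).subtype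
  have hW : ∀ g, eigen (mul P0) a0 (1 / 4) ≤ (eigen (mul P0) a0 (1 / 4)).comap (ρ g) := fun g v hv => by
    change g.1.1 v ∈ eigen (mul P0) a0 (1 / 4)
    rw [Maj.mem_eigen] at hv ⊢
    rw [← Row.fix_a0 (Subgroup.mem_centralizer_singleton_iff.1 g.2), ← mul_inv' g.1.2, hv, map_smul]
  let ρ1 := Representation.subrepresentation ρ _ hW
  let ρ2 := (QuotientGroup.lift (Subgroup.center _) ρ1 fun c hc => by
    rcases (Row.mem_center_iff hcov).1 hc with rfl | rfl
    · exact map_one _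
    · exact LinearMap.ext fun v => Subtype.ext
        (fix_of (pair_t0 (P := P0)) (by simp) (Maj.mem_eigen.1 v.2))).comp e.symm.toMonoidHom
  obtain ⟨s, h0, h1⟩ := Set.nonempty_of_ncard_ne_zero ((card_adj_t0 P0).trans_ne (by norm_num))
  have c := Row.comm_of_adj t0_mem h0 h1
  have tt := sq_of_mem_DD (t0_mem (P := P0))
  have hw : axs P0 s - axs P0 (s * t0 P0) ∈ eigen (mul P0) a0 (1 / 4) := by
    have a := (h2A _ t0_mem _ h0 (c ▸ h1)).2
    have b := (h2A _ t0_mem _ h1 (by rwa [← mul_assoc, ← c, mul_assoc, tt, mul_one])).2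
    rw [← mul_assoc, ← c, mul_assoc, tt, mul_one, axs_t0] at b
    rw [← c, axs_t0] at a
    rw [Maj.mem_eigen, map_sub, a, b]
    module
  have k : ∀ g, ∃ a ∈ DD P0, ∃ b ∈ DD P0, (ρ2 g ⟨_, hw⟩ : Gr.VV ℝ) = axs P0 a - axs P0 b := fun g => by
    obtain ⟨g, rfl⟩ := e.surjective g
    obtain ⟨g, rfl⟩ := QuotientGroup.mk_surjective g
    refine ⟨_, conj_mem_DD h0 g, _, conj_mem_DD h1 g, ?_⟩
    rw [axs_conj h0, axs_conj h1, ← map_sub]
    simp only [ρ2, MonoidHom.comp_apply, MulEquiv.coe_toMonoidHom, MulEquiv.symm_apply_apply]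
    rfl
  have r : ∀ a ∈ DD P0, ∀ b ∈ DD P0, ∃ q : ℚ, BB (axs P0 a) (axs P0 b) = q := fun a ha b hb => by
    rcases sys.sakuma ha hb with ⟨-, rfl⟩ | ⟨-, -, h | h⟩ | ⟨-, -, h | h⟩ | ⟨-, ⟨h, -⟩ | ⟨h, -⟩⟩ | ⟨-, h, -⟩ |
      ⟨-, h, -⟩
    exacts [⟨1, by rw [BB_axs_axs ha]; simp⟩, ⟨0, by rw [h]; simp⟩, ⟨1 / 8, by rw [h]; simp⟩,
      ⟨13 / 256, by rw [h]; simp⟩, ⟨1 / 64, by rw [h]; simp⟩, ⟨1 / 32, by rw [h]; simp⟩,
      ⟨1 / 64, by rw [h]; simp⟩, ⟨3 / 128, by rw [h]; simp⟩, ⟨5 / 256, by rw [h]; simp⟩]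
  obtain ⟨g, hg, hg'⟩ := adj_conj t0_mem h0 h1 h1 (by rwa [mul_assoc, tt, mul_one])
  refine descend ρ2 (BB.compl₁₂ (Submodule.subtype _) (Submodule.subtype _))
    (fun v hv => BB_pos _ fun e => hv (Subtype.ext e)) (w := ⟨_, hw⟩) (fun g h => ?_)
    (g := e (QuotientGroup.mk ⟨g, Subgroup.mem_centralizer_singleton_iff.2 hg⟩)) (fun n => ?_)
    (x := x) (by rw [← pow_two, ← hx, pow_orderOf_eq_one]) (by rintro rfl; simp at hx)
    finrank_eigen4.le F h2
  · obtain ⟨a, ha, b, hb, e1⟩ := k g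
    obtain ⟨c, hc, d, hd, e2⟩ := k h
    obtain ⟨q1, k1⟩ := r a ha c hc
    obtain ⟨q2, k2⟩ := r a ha d hd
    obtain ⟨q3, k3⟩ := r b hb c hc
    obtain ⟨q4, k4⟩ := r b hb d hd
    exact ⟨q1 - q3 - (q2 - q4), by
      simp only [LinearMap.compl₁₂_apply, Submodule.subtype_apply, e1, e2, map_sub, LinearMap.sub_apply,
        k1, k2, k3, k4, Rat.cast_sub]⟩
  · have n' := congrArg Subtype.val n
    simp only [ρ2, MonoidHom.comp_apply, MulEquiv.coe_toMonoidHom, MulEquiv.symm_apply_apply] at n'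
    change g.1 (_ - _) = _ - _ at n'
    rw [map_sub, ← axs_conj h0, ← axs_conj h1, hg', show g * (s * t0 P0) * g⁻¹ = s by
      rw [← mul_assoc, mul_assoc, ← (Commute.inv_left hg).eq, ← mul_assoc, hg', mul_assoc, tt, mul_one],
      ← neg_sub] at n'
    exact ne_one_of_mem_DD t0_mem (mul_eq_left.1
      (sys.ax_inj h0 h1 (sub_eq_zero.1 (eq_zero_of_neg (F := ℝ) two_ne_zero n'.symm))).symm)

end CL.B43
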