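import Cfsg.Agent.SPOR.B43.Rep3

/-!
Monomial systems in a small representation.
-/

set_option autoImplicit false

namespace CL.B43

open Cfsg Cfsg.Spor CL.Leech CL.MT MulAction Module Submodule

local notation "Λ" => leechLattice
local notation "u" => leechU

variable {K : Type*} [Group K] {z t j q r g a0 : K} {P J : Subgroup K} {R : Λ → K → Prop}
  {A : Co0 → K → Prop} {F : Type*} [Field F] {V : Type*} [AddCommGroup V] [Module F V]
  {ρ : Representation F K V} {V' : Type*} [AddCommGroup V'] [Module F V']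
  {ρ' : Representation F K V'} {p : V} {p' : V'}

theorem mem_Stb_span [Finite K] {x : K} : x ∈ Stb ρ (F ∙ p) ↔ ∃ s : F, ρ x p = s • p :=
  ⟨fun h => let ⟨s, e⟩ := mem_span_singleton.1 (h p (mem_span_singleton_self p)); ⟨s, e.symm⟩,
    fun ⟨s, e⟩ => span_map (mem_span_singleton.2 ⟨s, e.symm⟩)⟩

theorem cj_scal {c d : K} {α s : F} (h : ρ d⁻¹ p = α • p) (h' : ρ c p = s • p) :
    ρ (d * c * d⁻¹) p = s • p := by
  rw [rmul, rmul, h, map_smul, h', smul_comm, map_smul, ← h, rinv']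

theorem one_inv {x c : K} {s : F} (h : c ∈ Cn x) {m : V} (hm : m ∈ Ws ρ {x} fun _ => s) :
    ρ c m ∈ Ws ρ {x} fun _ => s := Ws_comm (by rintro _ rfl; exact mC.1 h) hm

namespace BG

variable (B : BG z t j q r g P J R A) {x y c d a b : K} {k l n ε : Co0} {v w : Λ} {m m' : V}
include B

/-- the image of a subgroup -/
def dn (T : Subgroup K) : Subgroup Co0 where
  carrier := {k | ∃ c ∈ T, A k c}
  one_mem' := ⟨1, one_mem _, B.A_of (one_mem _)⟩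
  mul_mem' := fun ⟨_, a, b⟩ ⟨_, c, d⟩ => ⟨_, mul_mem a c, B.A_mul b d⟩
  inv_mem' := fun ⟨_, a, b⟩ => ⟨_, inv_mem a, B.A_inv b⟩

theorem of_dn {T : Subgroup K} (hT : P ≤ T) (h : k ∈ B.dn T) (e : A k c) : c ∈ T := by
  obtain ⟨a, ha, e'⟩ := h
  simpa using mul_mem ha (hT (B.A_P e' e))

theorem wt_disj (h2 : (2 : F) ≠ 0) (h : m ∈ Ws ρ P (ch F R w))
    (h' : m ∈ Ws ρ P (ch F R (w + e8 none))) : m = 0 := by
  by_contra h0
  have := Ws_eq h0 h h' q B.q_mem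
  rw [B.ch_q] at this
  have h := ch_sq (F := F) (R := R) (w := w) (x := q)
  rw [eq_zero_of_neg (V := F) h2 this, zero_mul] at h
  exact zero_ne_one h

theorem r_cj (h : c ∈ Cn z) (h' : c ∈ Cn j) : r⁻¹ * c * r ∈ Cn z := mC.2 (by
  calc _ = r⁻¹ * (c * (r * z * r⁻¹)) * r := by group
    _ = r⁻¹ * ((r * z * r⁻¹) * c) * r := by
      rw [B.r_z, ← mul_assoc c, mC.1 h, mul_assoc z, mC.1 h', mul_assoc z]
    _ = _ := by group)

theorem r_mul (h : y * z * y⁻¹ = z * j) : r⁻¹ * y ∈ Cn z := mC.2 (by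
  calc _ = r⁻¹ * (y * z * y⁻¹) * y := by group
    _ = _ := by rw [h, ← B.r_z]; group)

theorem J_cases (h : y ∈ J) : y ∈ Cn z ∨ r⁻¹ * y ∈ Cn z :=
  (B.commJ h B.z_mem').imp mC.2 fun e => B.r_mul (by
    rw [e, mul_assoc z, B.jc h, ← mul_assoc, mul_inv_cancel_right])

variable [Finite K] (h2 : (2 : F) ≠ 0)
include h2

variable (ρ) in
omit B h2 [Finite K] in
/-- the space for the second monomial system -/
abbrev Yd (z j : K) (L : Set K) : Submodule F V :=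
  Ws ρ {z} (fun _ => 1) ⊓ Ws ρ {j} (fun _ => 1) ⊓ NT ρ L

theorem msD (M : RP ρ P J R p) (hd : A l d) (e : l • nv 0 = nv 1) :
    MS ρ (Cn z ⊓ Cn j) (P ⊓ Cn j :) (ch F R (nv 1)) (Yd ρ z j (P ⊓ J :)) (ρ d p) := by
  have w1 : ρ d p ∈ Ws ρ P (ch F R (nv 1)) := e ▸ B.wt_cj hd M.wt
  have yz : ∀ m ∈ Yd ρ z j (P ⊓ J :), ρ z m = m := fun m hm => (mem_one.1 hm.1.1).trans (one_smul _ _)
  refine ⟨fun x hx => ⟨B.PC hx.1, hx.2⟩, fun h hh x hx => ⟨B.normP hh.1 hx.1,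
      (Cn j).mul_mem ((Cn j).mul_mem ((Cn j).inv_mem hh.2) hx.2) hh.2⟩, rne _ _ M.ne,
    ⟨⟨mem_one.2 (by rw [B.wt_z w1, one_smul]), mem_one.2 (by rw [w1 j B.j_mem, B.ch_j' nv_odd.1])⟩,
      mem_NT (fun n => nv_d4.2.1 (by
        simpa using B.d4_of_ch h2 (w' := 0) fun x hx => (n x hx).trans ch_zero.symm))
        (Ws_mono (fun _ h => h.1) w1)⟩, Ws_mono (fun _ h => h.1) w1,
    fun h hh m hm => ⟨⟨one_inv hh.1 hm.1.1, one_inv hh.2 hm.1.2⟩, NT_inv (fun _ => B.normB hh.1 hh.2)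
      (fun _ hx => by simpa using B.normB ((Cn z).inv_mem hh.1) ((Cn j).inv_mem hh.2) hx) m hm.2⟩,
    fun x hx m hm => ?_, fun x hx y hy m hm => ?_, fun ψ m hm hψ h0 => ?_, fun m _ hm => ?_⟩
  · rw [← rmul]; rcases B.sq x hx.1 with e | e <;> rw [e]; exacts [rone _ _, yz m hm]
  · rw [← rmul, ← rmul]; rcases B.comm x hx.1 y hy.1 with e | e <;> rw [e]; rw [rmul, yz m hm]
  · obtain ⟨w, m, hm, h0, e⟩ := B.exists_wtP h2 (Γ := Yd ρ z j (P ⊓ J :) ⊓ Ws ρ (P ⊓ Cn j :) ψ)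
      (fun x hx m hm => ⟨⟨⟨one_inv (B.PC hx) hm.1.1.1,
        B.P_inv (by simpa using B.j_mem) hx (yz m hm.1) hm.1.1.2⟩, NT_inv (fun _ => B.normB' hx)
          (fun _ h => by simpa using B.normB' (inv_mem hx) h) m hm.1.2⟩,
        B.P_inv (fun _ h => h.1) hx (yz m hm.1) hm.2⟩) (fun m hm => yz m hm.1) ⟨hm, hψ⟩ h0
    have nd : ¬ D4 w := fun h => h0 (NT_fix hm.1.2 fun x hx => by rw [B.fixB h e hx, one_smul])
    have ev : Ev w (e8 none) := by_contra fun n => one_ne_neg h2 (smul_left_injective F h0 (by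
      simpa only [B.ch_j n] using (mem_one.1 hm.1.1.2).symm.trans (e j B.j_mem)))
    obtain ⟨y, hy, s⟩ := (M.ok h0 e).resolve_left fun n => nd (D4.sim (Or.inl (by simp)) n)
    obtain ⟨n, hn, rfl | rfl | rfl⟩ := M_cases hy
    · exact absurd ((nv_d4.1.smul hn.1).sim s) nd
    · obtain ⟨h, hh, e'⟩ := B.lift0 hn
      exact ⟨h, ⟨B.AC e', hh⟩, fun x hx => by
        rw [Ws_eq h0 hm.2 (Ws_mono (fun _ h => h.1) e) x hx, B.ch_sim s, B.ch_cj e' hx.1]⟩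
    · exact absurd ((odd_NN hn.1).1 (s.odd.1 ev)) nv_odd.2
  · obtain ⟨c, hc⟩ := mem_span_singleton.1 (B.splitAz h2 (W := F ∙ ρ d p)
      (fun m _ hm => let ⟨c, hc⟩ := (B.lineM M nv_mem.2.1 (rne ρ d M.ne) w1 hm :)
        mem_span_singleton.2 ⟨c, hc.symm⟩)
      (fun m h0 hm => absurd (M.ok h0 hm) (not_OK_nv1 (Sim.refl _))) hm)
    exact ⟨c, hc.symm⟩

theorem msS (M : RP ρ P J R p) (hd : A l d) (e : l • nv 0 = nv 2) :
    MS ρ P (P ⊓ J :) (fun b => ch F R (nv 2) (g⁻¹ * b * g)) (Ws ρ {z} fun _ => -1) (ρ g (ρ d p)) := by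
  have w1 : ρ d p ∈ Ws ρ P (ch F R (nv 2)) := e ▸ B.wt_cj hd M.wt
  have key : ∀ ψ m, m ∈ Ws ρ (P ⊓ J :) ψ → m ≠ 0 → ψ z = -1 → ψ j = 1 →
      ∃ h ∈ P, ∀ x ∈ P ⊓ J, ψ x = ch F R (nv 2) (g⁻¹ * (h⁻¹ * x * h) * g) := fun ψ m hm h0 e1 e2 => by
    obtain ⟨y, m, m0, hy, e⟩ := B.exists_L h2 (L := (P ⊓ J :)) (fun _ h => h.1) B.zB
      (ψ := fun x => ψ (g⁻¹⁻¹ * x * g⁻¹)) (by rw [inv_inv, B.gz, e2])
      (Ws_cj (fun _ hx => by rw [inv_inv]; exact (B.gB hx).2) hm) (rne ρ g⁻¹ h0)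
    have ho : ¬ Ev y (e8 none) := fun n => one_ne_neg h2 (by
      simpa only [B.ch_j' n, inv_inv, B.gj, e1] using e j B.jB)
    obtain ⟨ε, hε, hu, h4⟩ := exists_eps nv_odd.2 ho (ev_of_mem nv_mem.2.2) (M.ok m0 hy).ev
    obtain ⟨a, ha, e'⟩ := B.ex_a ε hε hu
    refine ⟨_, B.mP' ha, fun x hx => ?_⟩
    have := e _ (B.gB hx).1
    rw [← B.ch_d4 h4 (B.gB hx).1.2, ← B.ch_cj e' (B.gB hx).1.1] at this
    convert this.symm using 2 <;> group
  refine ⟨fun _ h => h.1, fun _ hh _ => B.normB' hh, rne _ _ (rne _ _ M.ne),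
    mem_one.2 (by rw [rcj, B.gz', w1 j B.j_mem, B.ch_j nv_odd.2, map_smul]),
    Ws_cj (fun _ hx => (B.gB hx).1.1) w1, fun h hh m hm => one_inv (B.PC hh) hm,
    fun x hx m _ => by rw [← rmul, B.B_sq hx, rone], fun x hx y hy m _ => by
      rw [← rmul, B.B_comm hx hy, rmul], fun ψ m hm hψ h0 => ?_, fun m _ hm => ?_⟩
  · have e1 : ψ z = -1 := smul_left_injective F h0 ((hψ z B.zB).symm.trans (mem_one.1 hm))
    have e2 : ψ j * ψ j = 1 := smul_left_injective F h0 (by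
      show _ • m = (1 : F) • m
      rw [mul_smul, ← hψ j B.jB, ← map_smul, ← hψ j B.jB, ← rmul, B.j_sq, rone, one_smul])
    rcases mul_self_eq_one_iff.1 e2 with e2 | e2
    · exact key ψ m hψ h0 e1 e2
    · obtain ⟨h, hh, e⟩ := key _ _ (Ws_cj (fun _ => B.normB' B.q_mem) hψ) (rne ρ q h0)
        (by simp only [mul_assoc, ← B.zc B.q_mem, inv_mul_cancel_left, e1])
        (smul_left_injective F h0 (by
          simp only [B.qj', ← hψ _ (mul_mem B.jB B.zB)]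
          rw [rmul, hψ z B.zB, map_smul, hψ j B.jB, e1, e2, smul_smul, neg_one_mul, neg_neg]))
      refine ⟨q⁻¹ * h, mul_mem (inv_mem B.q_mem) hh, fun x hx => ?_⟩
      have := e _ (B.normB' (inv_mem B.q_mem) hx)
      convert this using 2 <;> group
  · obtain ⟨c, hc⟩ := M.el (m' := ρ g⁻¹ m) nv_odd.2 (ev_of_mem nv_mem.2.2) (rne ρ d M.ne)
      (Ws_mono (fun _ h => h.1) w1) (Ws_of (Ws_cj (fun _ hx => by rw [inv_inv]; exact (B.gB hx).2) hm)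
        fun x _ => by congr 1; group)
    exact ⟨c, by rw [← map_smul, ← hc, rinv']⟩

variable (ha0 : a0 ∈ J) (hA : A sT a0) (M : RP ρ P J R p) (M' : RP ρ' P J R p')
include ha0 hA M M'

theorem keyN (hn : n ∈ NV) (hi : Ix n (some 1) (some 1)) (e : Sim (n • nv 0) (nv 0)) :
    n ∈ B.dn (Stb (ρ.prod ρ') (F ∙ (p, p'))) := by
  obtain ⟨h, hh, e'⟩ := B.lift0 hn
  refine ⟨h, mem_Stb_span.2 ?_, e'⟩
  have N := (B.vp h2 M ha0 hA).prod (B.vp h2 M' ha0 hA)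
  obtain ⟨c, hc⟩ := st1 (B.hu h2 ha0 hA M) (B.hu h2 ha0 hA M') h2 (n := ⟨n, hn.2⟩) hn hi
  set π := ρ.prod ρ'
  have e1 : π h (π g ((p, p') + π a0 (p, p'))) = c • π g ((p, p') + π a0 (p, p')) :=
    Prod.ext ((B.tau_eq e' _).symm.trans (congrArg (fun x => (x.1 : V)) hc))
      ((B.tau_eq e' _).symm.trans (congrArg (fun x => (x.2 : V')) hc))
  generalize (p, p') = m at N e1 ⊢
  obtain ⟨ε, hε⟩ := B.ex_g _ (mC.1 (mul_mem (inv_mem (B.AC e')) (B.r_cj (B.AC e') hh)))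
  have e2 := B.a_sub ha0 hA N (by
    simpa [mul_assoc] using mul_mem (B.normJ hh (inv_mem B.r_mem)) B.r_mem) hε
  rw [B.f_eq hA N, map_smul, smul_comm, smul_right_inj (left_ne_zero_of_mul_eq_one ch_sq), rcj,
    ← mul_inv_cancel_left h (r⁻¹ * h * r), rmul π h, e2, ← map_smul] at e1
  replace e1 := congrArg (fun x => lam F (some 1) ε • π r⁻¹ x) e1
  have l2 : lam F (some 1) ε * lam F (some 1) ε = 1 := by unfold lam; split_ifs <;> simp
  simp only [rinv, map_smul, smul_smul, l2, one_smul, map_sub] at e1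
  refine ⟨lam F (some 1) ε * c, sub_eq_zero.1 (B.wt_disj h2 (ρ := π) (w := nv 0)
    (sub_mem (B.wt_sim e (B.wt_cj e' N.wt)) (smul_mem _ _ N.wt)) ?_)⟩
  rw [show π h m - (lam F (some 1) ε * c) • m = π h (π a0 m) - (lam F (some 1) ε * c) • π a0 m by
    linear_combination (norm := module) e1]
  exact sub_mem (B.wt_sim (by
    rw [smul_add]; exact e.add (Or.inl (show n ∈ St _ from St_e8 none ▸ hn.1)))
      (B.wt_cj e' (B.wt1 hA N))) (smul_mem _ _ (B.wt1 hA N))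

theorem keyM (h : A k c) (e : Sim (k • nv 0) (nv 0)) :
    ∃ s : F, ρ.prod ρ' c (p, p') = s • (p, p') := by
  have hP : P ≤ Stb (ρ.prod ρ') (F ∙ (p, p')) := fun x hx =>
    mem_Stb_span.2 ⟨_, Ws_prod.2 ⟨M.wt, M'.wt⟩ x hx⟩
  have h1 := U6 (N := B.dn (Stb (ρ.prod ρ') (F ∙ (p, p'))) ⊓ (stabilizer Co0 u ⊓ stabilizer Co0 (nv 0)))
    ⟨inf_le_right, fun l hl n ⟨⟨c, hc, e⟩, hn⟩ => by
      obtain ⟨d, hd⟩ := B.ex_c l hl.1
      obtain ⟨s, hs⟩ := mem_Stb_span.1 hc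
      have i : Sim (l⁻¹ • nv 0) (nv 0) := by rw [show l⁻¹ • nv 0 = _ from (inv_mem hl).2]; exact Sim.refl _
      obtain ⟨α, hα⟩ := B.scal0 M (B.A_inv hd) i
      obtain ⟨β, hβ⟩ := B.scal0 M' (B.A_inv hd) i
      exact ⟨⟨_, mem_Stb_span.2 ⟨s, Prod.ext (cj_scal hα (congrArg Prod.fst hs))
        (cj_scal hβ (congrArg Prod.snd hs))⟩, B.A_mul (B.A_mul hd e) (B.A_inv hd)⟩,
        Subgroup.mul_mem _ (Subgroup.mul_mem _ hl hn) (Subgroup.inv_mem _ hl)⟩⟩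
    fun n hn e1 e2 => ⟨B.keyN h2 ha0 hA M M' hn (Or.inl (add_left_cancel (a := e8 none) (by
      nth_rw 1 [← e1]; rw [← smul_add, ← two_nv, smul_nsmul, e2]))) (by rw [e2]; exact Sim.refl _),
      hn.2, e2⟩
  have hu := B.A_fix h
  refine mem_Stb_span.1 (B.of_dn hP ?_ h)
  rcases e.eq (smul_mem_Mset hu nv_mem.1) nv_mem.1 with e | e
  · exact (h1.ge ⟨hu, e⟩).1
  · have n0 : sT * ss ∈ NV := mul_mem ⟨Sgn_le_NN (sg_mem _), sT_u⟩ ss_NV
    have := mul_mem (B.keyN h2 ha0 hA M M' n0 (Or.inr (by rw [mul_smul, ss_act.2.2.1, sT_e8]))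
      (s0_nv ▸ sim_sub _)) (h1.ge (show (sT * ss)⁻¹ * k ∈ _ from ⟨S.mul_mem (S.inv_mem n0.2) hu,
        show _ • _ = _ by rw [mul_smul, e, ← s0_nv, inv_smul_smul]⟩)).1
    rwa [mul_inv_cancel_left] at this

theorem key2 (h : A k c) (h' : A l d) (e : Sim (k • nv 0) (l • nv 0)) :
    ∃ s : F, ρ.prod ρ' c (p, p') = s • ρ.prod ρ' d (p, p') := by
  obtain ⟨s, hs⟩ := B.keyM h2 ha0 hA M M' (B.A_mul (B.A_inv h') h) (by
    simpa [mul_smul] using e.smul (B.A_fix (B.A_inv h')))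
  exact ⟨s, by rw [← map_smul, ← hs, rmul, rinv']⟩

end BG

end CL.B43
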