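import Cfsg.Agent.SPOR.B43.Glue1

/-!
Irreducibility and uniqueness of the representation of the minimal degree.
-/

set_option autoImplicit false

namespace CL.B43

open Cfsg Cfsg.Spor CL.Leech CL.MT MulAction Module Submodule

local notation "Λ" => leechLattice
local notation "u" => leechU

variable {K : Type*} [Group K] {z t j q r g a0 : K} {P J : Subgroup K} {R : Λ → K → Prop}
  {A : Co0 → K → Prop} {F : Type*} [Field F] {V : Type*} [AddCommGroup V] [Module F V]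
  {ρ : Representation F K V} {V' : Type*} [AddCommGroup V'] [Module F V']
  {ρ' : Representation F K V'} {p : V} {p' : V'}

namespace BG

variable (B : BG z t j q r g P J R A) {x y c d a b : K} {k l n ε : Co0} {v w : Λ} {m m' : V}
  [Finite K] (h2 : (2 : F) ≠ 0) (M : RP ρ P J R p) (M' : RP ρ' P J R p')
include B

omit [Finite K] in
theorem Yd_g : ∀ m ∈ Yd ρ z j (P ⊓ J :), ρ g m ∈ Yd ρ z j (P ⊓ J :) := fun m hm =>
  ⟨⟨mem_one.2 (by rw [rcj, B.gz', mem_one.1 hm.1.2, map_smul]),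
    mem_one.2 (by rw [rcj, B.gj', mem_one.1 hm.1.1, map_smul])⟩,
    NT_inv (fun _ h => (B.gB h).1) (fun _ h => (B.gB h).2) m hm.2⟩

include h2 M M'

theorem gamS (hd : A l d) (e : l • nv 0 = nv 2) (hc : c ∈ Cn z) :
    c ∈ Stb (ρ.prod ρ') (Sp (ρ.prod ρ') P (ρ.prod ρ' g (ρ.prod ρ' d (p, p')))) := by
  have S1 := B.msS h2 M hd e
  have S2 := B.msS h2 M' hd e
  have w : ρ.prod ρ' d (p, p') ∈ Ws _ P (ch F R (nv 2)) := e ▸ B.wt_cj hd (Ws_prod.2 ⟨M.wt, M'.wt⟩)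
  have G := S1.gr S2 h2 fun h hh e => by
    have hj : h ∈ Cn j := mC.2 ((B.comm h hh j B.j_mem).elim id fun n => absurd (e j B.jB) (by
      rw [show h⁻¹ * j * h = j * z by
        rw [mul_assoc, ← mul_right_inj h, mul_inv_cancel_left, ← mul_assoc, n, mul_assoc, B.z_sq, mul_one],
        show g⁻¹ * (j * z) * g = g⁻¹ * j * g * (g⁻¹ * z * g) by group, B.gj', B.gz', B.ch_z,
        B.ch_neg (B.R_mul B.R_z B.R_j) (by simpa using nv_odd.2)]
      exact (one_ne_neg h2).symm))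
    obtain ⟨ε, hε⟩ := B.ex_g _ (mC.1 (B.gC' hj).1)
    obtain rfl := eps_sep nv_odd.2 (B.lift (B.mP.1 hh) hε) (B.A_fix hε) (B.d4_of_ch h2 fun x hx => by
      have := e _ (B.gB hx).2
      rw [← B.ch_cj hε hx.1]
      convert this using 2 <;> group)
    exact ⟨_, (rcj _ _ _ _).trans ((congrArg (ρ.prod ρ' g) (w _ ((B.A_ker hε).2 rfl))).trans
      (map_smul _ _ _))⟩
  set Γ := Sp (ρ.prod ρ') P (ρ.prod ρ' g (ρ.prod ρ' d (p, p')))
  have hP : P ≤ Stb (ρ.prod ρ') Γ := fun x hx => Sp_inv hx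
  have : ((B.dn (Stb (ρ.prod ρ') Γ)).subgroupOf S).Normal := ⟨fun n ⟨x, hx, e⟩ k => by
    obtain ⟨y, hy⟩ := B.ex_c k k.2
    obtain ⟨s, -, hs⟩ := S1.scal S2 h2 G (g := y⁻¹) (fun _ => B.normP (inv_mem (B.AC hy)))
      (fun _ => one_inv (inv_mem (B.AC hy))) fun _ => one_inv (inv_mem (B.AC hy))
    exact ⟨_, conj_mem_Stb hs hx, B.A_mul (B.A_mul hy e) (B.A_inv hy)⟩⟩
  have := simple_stab_U
  obtain ⟨k, hk⟩ := B.ex_g c (mC.1 hc)
  refine B.of_dn hP (show (⟨k, B.A_fix hk⟩ : S) ∈ (B.dn _).subgroupOf S from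
    ((Subgroup.Normal.eq_bot_or_eq_top ‹_›).resolve_left fun e => ?_).ge trivial) hk
  obtain ⟨a, ha, hA⟩ := B.ex_a sT (sg_mem _) sT_u
  have : sT = 1 := congrArg Subtype.val (Subgroup.mem_bot.1 (e.le (show eT ∈ _ from
    ⟨a, Sp_map fun x hx => by
      rw [← rmul, show a * x = a * x * a⁻¹ * a by group, rmul, rcj _ a g, w _ (B.mJ.1 ha), map_smul,
        map_smul]
      exact smul_mem _ _ (mem_Sp (by simpa using B.normP (inv_mem (B.AC hA)) hx)), hA⟩)))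
  exact e8_ne_neg _ _ (by simpa [this] using sT_e8)

variable (ha0 : a0 ∈ J) (hA : A sT a0)
include ha0 hA

theorem gamD (hd : A l d) (e : l • nv 0 = nv 1) :
    g ∈ Stb (ρ.prod ρ') (Sp (ρ.prod ρ') (Cn z ⊓ Cn j) (ρ.prod ρ' d (p, p'))) := by
  have S1 := B.msD h2 M hd e
  have S2 := B.msD h2 M' hd e
  have w : ρ.prod ρ' d (p, p') ∈ Ws _ P (ch F R (nv 1)) := e ▸ B.wt_cj hd (Ws_prod.2 ⟨M.wt, M'.wt⟩)
  have G := S1.gr S2 h2 fun h hh e' => by
    obtain ⟨k, hk⟩ := B.ex_g h (mC.1 hh.1)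
    have s := (B.sim2_of_ch h2 fun x hx => (B.ch_cj hk hx.1).symm.trans (e' x hx)).resolve_right
      fun s => not_OK_nv1 s (Or.inr ⟨_, smul_mem_Mset (B.A_fix hk) nv_mem.2.1, Sim.refl _⟩)
    obtain ⟨c, hc⟩ := B.key2 h2 ha0 hA M M' (B.A_mul hk hd) hd (by rwa [mul_smul, e])
    exact ⟨c, by rw [rmul] at hc; exact hc⟩
  obtain ⟨c, c0, hc⟩ := S1.scal S2 h2 G (g := g) (fun h hh => ⟨(B.gC' hh.2).1, (B.gC hh.1).1⟩)
    B.Yd_g B.Yd_g
  have rq : r = q⁻¹ * g * q := by rw [B.g_eq]; group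
  refine braid (q := q) (a := r⁻¹ * (g * q * g⁻¹)) c0 hc (Sp_map fun x hx => ?_)
    (Sp_inv ⟨B.r_mul ?_, B.JC (mul_mem (inv_mem B.r_mem) (B.mJ' B.q_mem))⟩) (by
      rw [← rq, mul_inv_cancel_left])
  · rw [rcj, w _ (B.normP hx.1 B.q_mem), map_smul]
    exact smul_mem _ _ (mem_Sp hx)
  · calc _ = g * (q * (g⁻¹ * z * g) * q⁻¹) * g⁻¹ := by group
      _ = g * j * g⁻¹ * (g * z * g⁻¹) := by rw [B.gz', B.q_j]; group
      _ = _ := by rw [B.gj, B.gz]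

theorem glue [FiniteDimensional F V] [FiniteDimensional F V'] (hd : finrank F V ≤ 4371)
    (hd' : finrank F V' ≤ 4371) : ∃ Γ : Submodule F (V × V'), (∀ x, ∀ w ∈ Γ, ρ.prod ρ' x w ∈ Γ) ∧
      (p, p') ∈ Γ ∧ (p, (0 : V')) ∉ Γ := by
  obtain ⟨w, hw, hU⟩ := co2b (B.hu h2 ha0 hA M) (B.hu h2 ha0 hA M') h2 (by have := M.dim; omega)
    (by have := M'.dim; omega)
  have N := (B.vp h2 M ha0 hA).prod (B.vp h2 M' ha0 hA)
  obtain ⟨l1, u1, e1⟩ := M_trans nv_mem.2.1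
  obtain ⟨d1, hd1⟩ := B.ex_c l1 u1
  obtain ⟨l2, u2, e2⟩ := M_trans nv_mem.2.2
  obtain ⟨d2, hd2⟩ := B.ex_c l2 u2
  have gD := B.gamD h2 M M' ha0 hA hd1 e1
  have gS := fun c => B.gamS h2 M M' (c := c) hd2 e2
  have k2 := fun c d k l => B.key2 h2 ha0 hA M M' (c := c) (d := d) (k := k) (l := l)
  let ι := (Ws ρ P (ch F R 0)).subtype.prodMap (Ws ρ' P (ch F R 0)).subtype
  have hι : ∀ (k : S) c, A k c → ∀ v, ι ((B.tau ρ).prod (B.tau ρ') k v) = ρ.prod ρ' c (ι v) :=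
    fun k c e v => Prod.ext (B.tau_eq e _) (B.tau_eq e _)
  have iP : ∀ v, ι v ∈ Ws (ρ.prod ρ') P (ch F R 0) := fun v => Ws_prod.2 ⟨v.1.2, v.2.2⟩
  have w1 : ∀ a ∈ J, a ∈ Cn z → ρ.prod ρ' a (ι w) = ι w := fun a ha h => by
    obtain ⟨ε, e⟩ := B.ex_g a (mC.1 h)
    rw [← hι ⟨ε, B.A_fix e⟩ a e, hw _ (B.lift ha e), lm_none (B.lift ha e), one_smul]
  have w2 : ρ.prod ρ' r (ι w) = ι w :=
    Prod.ext (B.fixJ h2 M (fun a b c => congrArg Prod.fst (w1 a b c)) r B.r_mem)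
      (B.fixJ h2 M' (fun a b c => congrArg Prod.snd (w1 a b c)) r B.r_mem)
  set π := ρ.prod ρ'
  set m := (p, p') with hm
  set f := ((⟨ρ g (p + ρ a0 p), B.f_mem (B.vp h2 M ha0 hA)⟩ : Ws ρ P (ch F R 0)),
    (⟨ρ' g (p' + ρ' a0 p'), B.f_mem (B.vp h2 M' ha0 hA)⟩ : Ws ρ' P (ch F R 0)))
  have hf : ι f = π g (m + π a0 m) := rfl
  set U := ((F ∙ w) ⊔ Sp ((B.tau ρ).prod (B.tau ρ')) NS f).map ι
  set Γ := (U ⊔ Sp π (Cn z) m) ⊔ Sp π P (π g (π d2 m))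
  have i1 : U ≤ Γ := le_sup_of_le_left le_sup_left
  have i2 : Sp π (Cn z) m ≤ Γ := le_sup_of_le_left le_sup_right
  have hC : ∀ c ∈ Cn z, ∀ v ∈ Γ, π c v ∈ Γ := fun c hc => sup_map (sup_map (by
      rintro _ ⟨v, hv, rfl⟩
      obtain ⟨k, e⟩ := B.ex_g c (mC.1 hc)
      exact i1 ⟨_, hU ⟨k, B.A_fix e⟩ v hv, hι _ c e v⟩) fun v hv => i2 (Sp_inv hc v hv))
    fun v hv => mem_sup_right (gS c hc v hv)
  have a0C := B.AC hA
  have n1 : m + π a0 m ∈ Sp π (Cn z) m := add_mem self_mem_Sp (mem_Sp a0C)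
  have g1 : ∀ v ∈ Sp π (Cn z) m, π g v ∈ Γ := Sp_map fun c hc => by
    obtain ⟨k, e⟩ := B.ex_g c (mC.1 hc)
    have key : ∀ n ∈ NV, ∀ l d, A l d → k • nv 0 = n • l • nv 0 → π g (π d m) ∈ Γ → π g (π c m) ∈ Γ :=
      fun n hn l d h e' h' => by
        obtain ⟨y, hy, e''⟩ := B.lift0 hn
        obtain ⟨s, hs⟩ := k2 _ _ _ _ e (B.A_mul e'' h) (by rw [e', mul_smul]; exact Sim.refl _)
        rw [hs, map_smul, rmul, ← rmul π g y, show g * y = g * y * g⁻¹ * g by group, rmul]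
        exact smul_mem _ _ (hC _ (B.gC' hy).2 _ h')
    obtain ⟨n, hn, h | h | h⟩ := M_cases (smul_mem_Mset (B.A_fix e) nv_mem.1)
    · refine key n hn 1 1 (B.A_of (one_mem _)) (by rw [one_smul, h]) ?_
      rw [rone]
      refine (half_mem h2 (b := π g (π a0 m)) ?_ ?_).1
      · rw [← map_add, ← hf]; exact i1 ⟨_, mem_sup_right self_mem_Sp, rfl⟩
      · rw [← map_sub, B.g_sub hA N]; exact i2 (sub_mem self_mem_Sp (mem_Sp a0C))
    · refine key n hn _ _ hd1 (by rw [e1, h]) (i2 (Sp_le (fun x hx => ?_) (gD _ self_mem_Sp)))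
      rw [← rmul]; exact mem_Sp (mul_mem hx.1 (B.AC hd1))
    · exact key n hn _ _ hd2 (by rw [e2, h]) (mem_sup_right self_mem_Sp)
  have hg : ∀ v ∈ Γ, π g v ∈ Γ := sup_map (sup_map (by
      rintro _ ⟨v, hv, rfl⟩
      refine sup_le (c := Γ.comap (π g ∘ₗ ι)) ((span_singleton_le_iff_mem _ _).2 ?_)
        (Sp_le fun n hn => ?_) hv
      · show π g (ι w) ∈ Γ
        rw [B.g_eq, rmul, rmul, iP w _ (inv_mem B.q_mem), ch_zero, one_smul, w2, iP w _ B.q_mem, ch_zero,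
          one_smul]
        exact i1 ⟨_, mem_sup_left (mem_span_singleton_self _), rfl⟩
      · obtain ⟨y, hy, e⟩ := B.lift0 (k := n) hn
        show π g (ι _) ∈ Γ
        rw [hι n y e, hf, ← rmul, ← rmul, show g * y * g = g * y * g⁻¹ * (g * g) by group]
        exact i2 (Sp_inv (mul_mem (B.gC' hy).2 (B.PC B.gg.1)) _ n1)) g1) (Sp_map fun x hx => by
    have w : π d2 m ∈ Ws π P (ch F R (nv 2)) := e2 ▸ B.wt_cj hd2 N.wt
    rw [← rmul, ← rmul, show g * x * g = g * x * g⁻¹ * (g * g) by group, rmul, w _ B.gg.1, map_smul]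
    refine smul_mem _ _ ?_
    rcases B.J_cases (B.mJ' hx) with h | h
    · exact i2 (Sp_inv h _ (mem_Sp (B.AC hd2)))
    · rw [← mul_inv_cancel_left r (g * x * g⁻¹), rmul]
      nth_rw 1 [show r = q⁻¹ * g * q by rw [B.g_eq]; group]
      rw [rmul, rmul]
      exact hC _ (inv_mem (B.PC B.q_mem)) _ (g1 _ (Sp_inv (B.PC B.q_mem) _
        (Sp_inv h _ (mem_Sp (B.AC hd2))))))
  refine ⟨Γ, fun x => (B.gen (Stb π Γ) (fun c e => hC c (mC.2 e)) (B.g_eq ▸ hg)).ge trivial,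
    i2 self_mem_Sp, fun h => ?_⟩
  obtain ⟨a, ha, b, hb, e⟩ := mem_sup.1 h
  have p0 : (p, (0 : V')) ∈ Ws π P (ch F R (nv 0)) := Ws_prod.2 ⟨M.wt, zero_mem _⟩
  have UP : U ≤ Ws π P (ch F R 0) := by rintro _ ⟨v, -, rfl⟩; exact iP v
  have za : π z a = a := (mem_one.1 (sup_le (c := Ws π {z} fun _ => 1)
    (fun v hv => mem_one.2 (by rw [B.wt_z (UP hv), one_smul]))
    (Sp_le fun c hc => one_inv hc (mem_one.2 (by rw [B.wt_z N.wt, one_smul]))) ha)).trans (one_smul _ _)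
  have zb : π z b = (-1 : F) • b := mem_one.1 (Sp_le (W := Ws π {z} fun _ => -1) (fun c hc =>
    one_inv (B.PC hc) (Ws_prod.2 ⟨(B.msS h2 M hd2 e2).mem, (B.msS h2 M' hd2 e2).mem⟩)) hb)
  have := B.wt_z p0
  rw [← e, map_add, za, zb, add_right_inj, neg_one_smul] at this
  rw [eq_zero_of_neg h2 this.symm, add_zero] at e
  choose kc hk using fun c : Cn z => B.ex_g c (mC.1 c.2)
  obtain ⟨s, hs⟩ := mem_span_singleton.1 (comp (W := F ∙ m)
    (fun o : Option (Cn z) => o.elim U fun c => F ∙ π c m)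
    (fun o => ch F R (o.elim 0 fun c => kc c • nv 0))
    (by
      rintro (_ | c)
      exacts [UP, (span_singleton_le_iff_mem _ _).2 (B.wt_cj (hk c) N.wt)])
    (by rw [iSup_option, ← e]; exact ha) p0 (by
      rintro (_ | c) h
      · exact absurd (B.sim_of_ch h2 h).symm (not_sim0 nv_mem.1)
      · obtain ⟨s, hs⟩ := B.keyM h2 ha0 hA M M' (hk c) (B.sim_of_ch h2 h)
        exact (span_singleton_le_iff_mem _ _).2 (mem_span_singleton.2 ⟨s, hs.symm⟩)))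
  obtain rfl := (smul_eq_zero.1 (congrArg Prod.snd hs)).resolve_right M'.ne
  exact M.ne ((congrArg Prod.fst hs).symm.trans (zero_smul _ _))

end BG

end CL.B43
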