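import Cfsg.Agent.SPOR.B43.Lat1

/-!
Special automorphisms of the lattice; the classes of the weights.
-/

set_option autoImplicit false
set_option maxRecDepth 100000

namespace CL.B43

open Cfsg Cfsg.Spor CL.Leech CL.MT CL.K CL.Pack MulAction
open CL.Golay (E isCw)

local notation "Λ" => leechLattice
local notation "u" => leechU

variable {x y v w : Λ} {k : Co0} {m : ℕ}

/-- the sign change on a mask -/
noncomputable def sg (m : ℕ) : Co0 :=
  if h : isCw m = true then sgn ⟨E.setOf m, Golay.setOf_mem_of_isCw h⟩ else 1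

theorem sg_mem (m : ℕ) : sg m ∈ Sgn := by
  unfold sg; split_ifs; exacts [sgn_mem _, one_mem _]

theorem sg_apply (h : isCw m = true) (v : Λ) (i : GolayPt) : ((sg m • v : Λ) : GolayPt → ℤ) i =
    if m.testBit (E.enc i) = true then -(v : GolayPt → ℤ) i else (v : GolayPt → ℤ) i := by
  rw [sg, dif_pos h, sgn_apply]; simp only [E.mem_setOf]

theorem sg_e8 (h : isCw m = true) (i : GolayPt) :
    sg m • e8 i = if m.testBit (E.enc i) = true then -e8 i else e8 i := by
  rw [sg, dif_pos h, sgn, mono_e8]; simp only [E.mem_setOf]; rfl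

/-- its action on codes -/
noncomputable def sf (m X : ℕ) : ℕ :=
  force X fun X => enc fun p => if m.testBit (E.enc p) = true then -vec X p else vec X p

theorem rep_sg (h : isCw m = true) : RepF (sg m) (sf m) := fun x hx => by
  rw [sf, force_eq, vec_enc (bd_of_sqNorm hx)]
  exact congrArg enc (funext fun p => (sg_apply h x p).symm)

theorem act {g : Co0} {f : ℕ → ℕ} (hg : RepF g f) (h : sqNorm (x : GolayPt → ℤ) ≤ 80 ∧
    sqNorm (y : GolayPt → ℤ) ≤ 80 ∧ f (enc x) = enc y) : g • x = y := by
  rw [← one_smul Co0 y]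
  exact (hg.smul_eq_iff RepF.one h.1 h.2.1).2 h.2.2

/-- the matrix of an involution which moves the standard frame -/
def cK : ℕ := 0x62108421084210842108421086110c4110863108421084310842108421084218842108421084208c4210c421084210c421044210c421084310842108431082310842108431084210842108431086110842108431084210842108421084218841108421084208842088421044210c4210c4210843108421084210842108621882210862108421084210842088431084210842088420884210842108621886210822108421084210c4210c4210c4210841108421084210842108221886210862108421084310863108421084110842108421084208842108421084218c4210c421084218842108421084218c42104421084210842108620886210862108421084210c4210c42104421084310842108421084208841108421084218842088421884210842108421844210c4210862108421084210842108421086310422108421084210842108421086310c42108420884110842108420884218862108421084210842108421082310c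

theorem rep_k : RepF (aut cK) (ap cK) := rep_aut (by decide +kernel)

/-- the involution -/
noncomputable def kk : Co0 := aut cK

/-- the image of the frame vector -/
noncomputable def ww : Λ :=
  lv 0x600200100080040020010008004002001000800400200100080040020010008006001001000c (by decide +kernel)

/-- a sign change -/
noncomputable abbrev sD : Co0 := sg 72588
/-- a sign change -/
noncomputable abbrev sT : Co0 := sg 36294
/-- the monomial involution which interchanges the two special coordinates -/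
noncomputable def ss : Co0 := kk * sD * kk

theorem rep_D : RepF sD (sf 72588) := rep_sg (by decide +kernel)
theorem rep_T : RepF sT (sf 36294) := rep_sg (by decide +kernel)

theorem kk_sq : kk * kk = 1 := ((rep_k.mul rep_k).eq_iff RepF.one).2 (by decide +kernel)
theorem kk_u : kk • u = u := act rep_k (by decide +kernel)
theorem kk_c : kk • e8 none = ww := act rep_k (by decide +kernel)
theorem kk_w : kk • ww = e8 none := by rw [← kk_c, smul_smul, kk_sq, one_smul]
theorem kk_inv : kk⁻¹ = kk := inv_eq_of_mul_eq_one_right kk_sq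

theorem kk_u' : kk • leechU' ≠ leechU' ∧ kk • leechU' ≠ -leechU' := by
  rw [show kk • leechU' = v44 (some 3) (some 2) 4 (-4) rfl rfl from act rep_k (by decide +kernel)]
  decide +kernel

theorem kk_O : ∀ m ∈ [190626, 1265762, 3216208, 5129250], isCw m = true ∧ kk * sg m * kk = sg m := by
  have : ∀ m ∈ [190626, 1265762, 3216208, 5129250], isCw m = true ∧
      eqF (fun X => ap cK (sf m (ap cK X))) (sf m) = true := by decide +kernel
  exact fun m hm => ⟨(this m hm).1, (((rep_k.mul (rep_sg (this m hm).1)).mul rep_k).eq_iff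
    (rep_sg (this m hm).1)).2 (this m hm).2⟩

theorem ss_act : ss • e8 none = e8 (some 0) ∧ ss • e8 (some 0) = e8 none ∧
    ss • e8 (some 1) = e8 (some 1) ∧ ss • e8 (some 2) = -e8 (some 3) :=
  have r := (rep_k.mul rep_D).mul rep_k
  ⟨act r (by decide +kernel), act r (by decide +kernel), act r (by decide +kernel),
    act r (by decide +kernel)⟩

theorem aa_act : (sT * kk * (sT * kk) * (sT * kk)) • e8 none = e8 none ∧
    (sT * kk * (sT * kk) * (sT * kk)) • ww = ww :=
  have r := ((rep_T.mul rep_k).mul (rep_T.mul rep_k)).mul (rep_T.mul rep_k)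
  ⟨act r (by decide +kernel), act r (by decide +kernel)⟩

theorem sg_u (h : isCw m = true ∧ m.testBit 23 = false ∧ m.testBit 0 = false) : sg m • u = u := by
  rw [sg, dif_pos h.1]
  exact sgn_u (by rw [E.mem_setOf]; exact ne_true_of_eq_false h.2.1)
    (by rw [E.mem_setOf]; exact ne_true_of_eq_false h.2.2)

theorem sD_u : sD • u = u := sg_u (by decide +kernel)
theorem sT_u : sT • u = u := sg_u (by decide +kernel)
theorem ss_u : ss • u = u := by rw [ss, mul_smul, mul_smul, kk_u, sD_u, kk_u]

theorem ss_NV : ss ∈ NV :=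
  ⟨mem_NN_of_smul_mem (e8_mem_stdX none) (ss_act.1 ▸ e8_mem_stdX _), ss_u⟩

/-- multiplication by two -/
noncomputable def s11 : M24 :=
  ⟨_, Golay.mulLeft_mem (ZMod.unitOfCoprime 2 (by norm_num : Nat.Coprime 2 23))
    ⟨ZMod.unitOfCoprime 5 (by norm_num), by decide⟩⟩

theorem s11_some (i : ZMod 23) : s11.1 (some i) = some (2 * i) := rfl

theorem s11_pow : permHom s11 ^ 11 = 1 := by
  rw [← map_pow, show s11 ^ 11 = 1 from Subtype.ext (Equiv.ext (by decide +kernel)), map_one]

theorem exists_fixed {σ : Co0} (hu : σ • u = u) (h1 : σ ^ 11 = 1) (h : Sim (σ • v) v) :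
    ∃ w, σ • w = w ∧ Sim w v := by
  have k : ∀ n : ℕ, Sim (σ ^ n • v) v := fun n => by
    induction n with
    | zero => rw [pow_zero, one_smul]; exact Sim.refl v
    | succ n ih => rw [pow_succ', mul_smul]; exact (ih.smul hu).trans h
  refine ⟨∑ m ∈ Finset.range 11, σ ^ m • v, ?_, ?_⟩
  · rw [Finset.smul_sum]
    simp only [← mul_smul, ← pow_succ']
    have := Finset.sum_range_succ' (fun m => σ ^ m • v) 11
    rw [Finset.sum_range_succ, h1, pow_zero] at this
    exact (add_right_cancel this).symm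
  · refine Sim.trans ?_ (Or.inl (Cong.nsmul_odd v (by decide : Odd 11)))
    generalize 11 = n
    induction n with
    | zero => simpa using Sim.refl _
    | succ n ih => rw [Finset.sum_range_succ, succ_nsmul]; exact ih.add (k n)

/-- a dodecad vector -/
noncomputable def dN : Λ :=
  lv 0x5002801400a00500200140080050028010008005002801000800500200140080040020010008 (by decide +kernel)
/-- the complementary dodecad vector -/
noncomputable def dQ : Λ :=
  lv 0x40020010008004002801000a004002001400a004002001400a004002801000a005002801400a (by decide +kernel)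

theorem cong_zsmul (n : ℤ) (x : Λ) : Cong (n • x) 0 ∨ Cong (n • x) x := by
  rcases Int.even_or_odd' n with ⟨m, rfl | rfl⟩
  · exact Or.inl ⟨m • x, by rw [two_nsmul]; module⟩
  · exact Or.inr ⟨m • x, by rw [two_nsmul]; module⟩

theorem fix11 (h : permHom s11 • y = y) (h4 : ∀ i, (y : GolayPt → ℤ) i % 4 = 0) :
    Sim y 0 ∨ Sim y (e8 none) := by
  have h1 : ∀ i, (y : GolayPt → ℤ) (some (2 * i)) = (y : GolayPt → ℤ) (some i) := fun i => by
    nth_rw 1 [← h]
    rw [permHom_apply, ← s11_some, Equiv.symm_apply_apply]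
  have h2 : ∀ (n : ℕ) i, (y : GolayPt → ℤ) (some (2 ^ n * i)) = (y : GolayPt → ℤ) (some i) :=
    fun n i => by
      induction n with
      | zero => rw [pow_zero, one_mul]
      | succ n ih => rw [pow_succ', mul_assoc, h1, ih]
  obtain ⟨a, ha⟩ := Int.dvd_of_emod_eq_zero (h4 none)
  obtain ⟨b, hb⟩ := Int.dvd_of_emod_eq_zero (h4 (some 0))
  obtain ⟨c, hc⟩ := Int.dvd_of_emod_eq_zero (h4 (some 1))
  obtain ⟨d, hd⟩ := Int.dvd_of_emod_eq_zero (h4 (some 5))
  have h3 : ∀ p, p ≠ none → ((y - 2 • (d • dN + c • dQ) - (b - c) • u : Λ) : GolayPt → ℤ) p = 0 := by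
    intro p hp
    simp only [AddSubgroup.coe_sub, two_nsmul, AddSubgroup.coe_add, AddSubgroup.coe_zsmul,
      Pi.sub_apply, Pi.add_apply, Pi.smul_apply, smul_eq_mul]
    rcases (by decide +kernel : ∀ p : GolayPt, p ≠ none →
      (p = some 0 ∧ (dN : GolayPt → ℤ) p = 0 ∧ (dQ : GolayPt → ℤ) p = 2 ∧ (u : GolayPt → ℤ) p = 4) ∨
      ((∃ n < 11, p = some (2 ^ n * 1)) ∧ (dN : GolayPt → ℤ) p = 0 ∧ (dQ : GolayPt → ℤ) p = 2 ∧
        (u : GolayPt → ℤ) p = 0) ∨
      ((∃ n < 11, p = some (2 ^ n * 5)) ∧ (dN : GolayPt → ℤ) p = 2 ∧ (dQ : GolayPt → ℤ) p = 0 ∧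
        (u : GolayPt → ℤ) p = 0)) p hp with ⟨e, e1, e2, e3⟩ | ⟨⟨n, -, e⟩, e1, e2, e3⟩ |
          ⟨⟨n, -, e⟩, e1, e2, e3⟩ <;> rw [e1, e2, e3, e]
    · omega
    · rw [h2]; omega
    · rw [h2]; omega
  have h5 : y = 2 • (d • dN + c • dQ) + (b - c) • u + (y - 2 • (d • dN + c • dQ) - (b - c) • u) := by
    abel
  generalize y - 2 • (d • dN + c • dQ) - (b - c) • u = r at h3 h5
  have h6 : (r : GolayPt → ℤ) = Pi.single none ((r : GolayPt → ℤ) none) := funext fun p => by
    by_cases e : p = none
    · rw [e, Pi.single_eq_same]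
    · rw [h3 p e, Pi.single_eq_of_ne e]
  have h7 := eight_dvd_dot r.2 o3.2
  rw [h6, dot_single_left, show (o3 : GolayPt → ℤ) none = -3 from rfl] at h7
  obtain ⟨n, hn⟩ : (8 : ℤ) ∣ (r : GolayPt → ℤ) none := by omega
  have h8 : r = n • e8 none := Subtype.ext (by
    rw [h6, hn, AddSubgroup.coe_zsmul, coe_e8, ← Pi.single_smul, smul_eq_mul, mul_comm])
  have h9 : Sim y (0 + 0 + n • e8 none) := by
    rw [h5, h8]
    refine (Sim.add (Or.inl ⟨_, sub_zero _⟩) ?_).add (Sim.refl _)
    exact (cong_zsmul _ _).imp id fun e => by rwa [zero_add]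
  rw [zero_add, zero_add] at h9
  exact (cong_zsmul n _).imp (fun e => h9.trans (Or.inl e)) fun e => h9.trans (Or.inl e)

theorem OK.smul (h : OK x) (hk : k • u = u) : OK (k • x) :=
  h.imp (fun e => by simpa using e.smul hk) fun ⟨_, hy, e⟩ => ⟨_, smul_mem_Mset hk hy, e.smul hk⟩

theorem D4.sub (h : D4 v) (h' : D4 w) : D4 (v - w) := (h.add h').sim (Or.inl (cong_sub _ _))

theorem odd_NN (hk : k ∈ NN) : Ev (k • x) (e8 none) ↔ Ev x (e8 none) := by
  rw [ev_inv, ev_cong' (show k⁻¹ ∈ St (e8 none) from St_e8 none ▸ inv_mem hk)]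

theorem Sim.odd (h : Sim x y) : Ev x (e8 none) ↔ Ev y (e8 none) := h.ev (ev_ue _)

theorem s11_u : permHom s11 • u = u := permHom_fix _ (by decide +kernel)
theorem s11_x1 : permHom s11 • x1 = x1 := permHom_fix _ (by decide +kernel)

/-- a vector of norm six -/
noncomputable def y0 : Λ :=
  lv 0x3802400e007004801c0120090048024012009004801c012007004801c012009002802c012005 (by decide +kernel)

theorem y0_eq : (kk * sT) • (x1 - e8 none) = y0 := act (rep_k.mul rep_T) (by decide +kernel)

theorem not_sim_y0 {ε : Co0} (hε : ε ∈ Sgn) : ¬ Sim (ε • (x1 - e8 none)) y0 := by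
  obtain ⟨C, rfl⟩ := exists_sgn hε
  have h1 := sgn_apply C (x1 - e8 none) none
  rw [show ((x1 - e8 none : Λ) : GolayPt → ℤ) none = -5 by decide +kernel] at h1
  have h2 : sqNorm ((sgn C • (x1 - e8 none) : Λ) : GolayPt → ℤ) = 48 := by
    rw [sqNorm_smul]; decide +kernel
  have k : ∀ w : Λ, sqNorm (w : GolayPt → ℤ) ≤ 64 ∧ |(w : GolayPt → ℤ) none| ≠ 5 →
      ¬ Cong (sgn C • (x1 - e8 none)) w := fun w hw c => by
    rcases c.short (by omega) hw.1 with e | e | e
    · rw [← e, h1] at hw; split_ifs at hw <;> simp at hw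
    · rw [← neg_eq_iff_eq_neg.2 e, AddSubgroup.coe_neg, Pi.neg_apply, h1] at hw
      split_ifs at hw <;> simp at hw
    · omega
  exact fun h => h.elim (k _ (by decide +kernel)) (k _ (by decide +kernel))

/-- the classes of the weights -/
theorem classify {W : Λ → Prop} (hev : ∀ x, W x → Ev u x)
    (hS : ∀ (k : Co0) x, k • u = u → W x → W (k • x))
    (hu : ∀ x y, W x → W y → ¬ Ev x (e8 none) → D4 (x - y) → Sim x y) (h : W x) : OK x := by
  by_cases h0 : Sim x 0
  · exact Or.inl h0
  obtain ⟨k, hk, ho⟩ := exists_odd (hev x h) h0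
  obtain ⟨ε, hε, he, hd⟩ := exists_eps ho x1_odd (hev _ (hS k x hk h)) (ev_of_mem x1_mem)
  have hw := hS ε _ he (hS k x hk h)
  rw [← odd_NN (Sgn_le_NN hε)] at ho
  suffices OK (ε • k • x) by
    simpa using (this.smul (k := ε⁻¹) (inv_smul_eq_iff.2 he.symm)).smul (k := k⁻¹)
      (inv_smul_eq_iff.2 hk.symm)
  generalize ε • k • x = x at hw ho hd
  have hN := permHom_mem_NN s11
  have h1 := hu _ _ (hS _ _ s11_u hw) hw (by rwa [odd_NN hN]) (by
    have := (hd.smul hN).sub hd
    rwa [smul_sub, s11_x1, sub_sub_sub_cancel_right] at this)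
  obtain ⟨y, hy, h2⟩ := exists_fixed s11_u s11_pow (v := x - x1) (by
    rw [smul_sub, s11_x1, sub_eq_add_neg, sub_eq_add_neg]; exact h1.add (Sim.refl _))
  obtain ⟨a, ha, e⟩ := (hd.sim h2).dec x1 (odd_all x1_odd)
  have h3 : Sim (x - x1) a := by
    rcases e with rfl | rfl
    exacts [h2.symm, h2.symm.trans (Or.inl ⟨x1, by abel⟩)]
  have h4 := fix11 (y := a) (by
    rcases e with rfl | rfl
    exacts [hy, by rw [smul_sub, hy, smul_nsmul, s11_x1]]) ha
  have h5 : ∀ w, Sim a w → Sim x (x1 + w) := fun w e => by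
    simpa using (Sim.refl x1).add (h3.trans e)
  rcases h4 with e | e
  · exact Or.inr ⟨x1, x1_mem, by simpa using h5 _ e⟩
  · have h6 := (h5 _ e).trans (Or.inl (cong_sub _ _).symm)
    have hk : (kk * sT) • u = u := by rw [mul_smul, sT_u, kk_u]
    have h7 := h6.smul hk
    rw [y0_eq] at h7
    obtain ⟨ε, hε, he, hd⟩ := exists_eps ho (y := (kk * sT) • x)
      (by rw [h7.odd, ev_e8]; decide +kernel) (hev _ hw) (hev _ (hS _ _ hk hw))
    exact absurd (((h6.smul he).symm.trans (hu _ _ (hS _ _ he hw) (hS _ _ hk hw)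
      (by rwa [odd_NN (Sgn_le_NN hε)]) hd)).trans h7) (not_sim_y0 hε)

end CL.B43
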