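import Cfsg.Agent.SPOR.B43.BT
import Cfsg.Agent.SPOR.B43.Co2

/-!
Weights of a representation of the double cover of the Baby Monster of small degree.
-/

set_option autoImplicit false

namespace CL.B43

open Cfsg Cfsg.Spor CL.Leech CL.MT MulAction Module Submodule

local notation "Λ" => leechLattice
local notation "u" => leechU

variable {K : Type*} [Group K]

/-- the local structure with a name for the element which interchanges the two involutions -/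
structure BG (z t j q r g : K) (P J : Subgroup K) (R : Λ → K → Prop) (A : Co0 → K → Prop) : Prop
    extends BT z t j q r P J R A where
  g_eq : g = q * r * q⁻¹

/-- centraliser of an element -/
abbrev Cn (z : K) : Subgroup K := Subgroup.centralizer {z}

theorem mC {x z : K} : x ∈ Cn z ↔ x * z = z * x := Subgroup.mem_centralizer_singleton_iff

open Classical in
/-- the characters of `P` -/
noncomputable def ch (F : Type*) [Field F] (R : Λ → K → Prop) (x : Λ) (p : K) : F :=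
  if ∀ v, R v p → Ev x v then 1 else -1

variable {z t j q r g : K} {P J : Subgroup K} {R : Λ → K → Prop} {A : Co0 → K → Prop}
  {F : Type*} [Field F] {V : Type*} [AddCommGroup V] [Module F V] {ρ : Representation F K V}

theorem one_ne_neg (h2 : (2 : F) ≠ 0) : (1 : F) ≠ -1 := fun e => one_ne_zero (eq_zero_of_neg h2 e)

theorem finrank_map_rep (ρ : Representation F K V) (x : K) (W : Submodule F V) :
    finrank F (W.map (ρ x)) = finrank F W :=
  (equivMapOfInjective _ (fun a b e => by rw [← rinv ρ x a, e, rinv]) W).finrank_eq.symm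

theorem two_le [FiniteDimensional F V] (h2 : (2 : F) ≠ 0) (x : K) {a b Y : Submodule F V}
    (ha : a ≤ Ws ρ {x} fun _ => 1) (hb : b ≤ Ws ρ {x} fun _ => -1) (ha' : a ≤ Y) (hb' : b ≤ Y) :
    finrank F a + finrank F b ≤ finrank F Y := by
  have := sum_le (ρ := ρ) (L := {x}) Finset.univ (fun i => cond i a b) (fun i _ => cond i 1 (-1))
    (by rintro (_ | _) _; exacts [hb, ha]) (fun i _ i' _ e => by
      have := e x rfl
      have := one_ne_neg h2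
      cases i <;> cases i' <;> simp_all [eq_comm]) (Y := Y) (by rintro (_ | _) _; exacts [hb', ha'])
  simpa using this

namespace BG

variable (B : BG z t j q r g P J R A) {x y c a b p : K} {k : Co0} {v w : Λ}
include B

theorem zc (h : x ∈ P) : x * z = z * x := B.A_comm (B.A_of h)
theorem z_mem : z ∈ P := B.R_mem B.R_z
theorem j_mem : j ∈ P := B.R_mem B.R_j
theorem mJ : x ∈ J ↔ g⁻¹ * x * g ∈ P := B.g_eq ▸ B.mem_J

theorem gz : g * z * g⁻¹ = j := by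
  have c : q⁻¹ * z * q = z := by rw [mul_assoc, ← B.zc B.q_mem, inv_mul_cancel_left]
  calc _ = q * (r * (q⁻¹ * z * q) * r⁻¹) * q⁻¹ := by rw [B.g_eq]; group
    _ = q * z * q⁻¹ * (q * j * q⁻¹) := by rw [c, B.r_z]; group
    _ = _ := by
      rw [B.q_j, B.zc B.q_mem, mul_inv_cancel_right, B.zc B.j_mem, ← mul_assoc, B.z_sq, one_mul]

theorem gj' : g⁻¹ * j * g = z := by rw [← B.gz]; group

theorem jc (h : x ∈ J) : x * j = j * x := by
  have := congrArg (fun y => g * y * g⁻¹) (B.zc (B.mJ.1 h))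
  simpa [← B.gz, mul_assoc] using this

theorem commJ (hx : x ∈ J) (hy : y ∈ J) : x * y = y * x ∨ x * y = y * x * j :=
  (B.comm _ (B.mJ.1 hx) _ (B.mJ.1 hy)).imp
    (fun e => by simpa [mul_assoc] using congrArg (fun y => g * y * g⁻¹) e)
    fun e => by simpa [← B.gz, mul_assoc] using congrArg (fun y => g * y * g⁻¹) e

theorem sqJ (hx : x ∈ J) : x * x = 1 ∨ x * x = j :=
  (B.sq _ (B.mJ.1 hx)).imp (fun e => by simpa [mul_assoc] using congrArg (fun y => g * y * g⁻¹) e)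
    fun e => by simpa [← B.gz, mul_assoc] using congrArg (fun y => g * y * g⁻¹) e

theorem j_mem' : j ∈ J := B.mJ.2 (B.gj' ▸ B.z_mem)

theorem z_mem' : z ∈ J := by
  have e : g⁻¹ * z * g = q * (r⁻¹ * (q⁻¹ * z * q) * r) * q⁻¹ := by rw [B.g_eq]; group
  have c : r⁻¹ * z * r = z * j := by
    have a : z = r⁻¹ * (z * j) * r := by rw [← B.r_z]; group
    have b : r⁻¹ * j * r = j := by rw [mul_assoc, ← B.jc B.r_mem, inv_mul_cancel_left]
    calc r⁻¹ * z * r = r⁻¹ * (z * (j * j)) * r := by rw [B.j_sq, mul_one]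
      _ = r⁻¹ * (z * j) * r * (r⁻¹ * j * r) := by group
      _ = _ := by rw [← a, b]
  rw [B.mJ, e, mul_assoc q⁻¹, ← B.zc B.q_mem, inv_mul_cancel_left, c]
  exact mul_mem (mul_mem B.q_mem (mul_mem B.z_mem B.j_mem)) (inv_mem B.q_mem)

theorem gg : g * g ∈ P ⊓ J := by
  rw [show g * g = q * (r * r) * q⁻¹ by rw [B.g_eq]; group]
  rcases B.sqJ B.r_mem with e | e <;> rw [e]
  · simp
  · rw [B.q_j]; exact ⟨mul_mem B.j_mem B.z_mem, mul_mem B.j_mem' B.z_mem'⟩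

theorem gj : g * j * g⁻¹ = z := by
  rw [← B.gz, show g * (g * z * g⁻¹) * g⁻¹ = g * g * z * (g * g)⁻¹ by group, B.zc B.gg.1,
    mul_inv_cancel_right]

theorem gz' : g⁻¹ * z * g = j := by rw [← B.gj]; group

theorem mP : x ∈ P ↔ g⁻¹ * x * g ∈ J := by
  rw [B.mJ, show g⁻¹ * (g⁻¹ * x * g) * g = (g * g)⁻¹ * x * (g * g) by group,
    P.mul_mem_cancel_right B.gg.1, P.mul_mem_cancel_left (P.inv_mem B.gg.1)]

theorem mJ' (h : x ∈ P) : g * x * g⁻¹ ∈ J := B.mJ.2 (by simpa [mul_assoc] using h)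
theorem mP' (h : x ∈ J) : g * x * g⁻¹ ∈ P := B.mP.2 (by simpa [mul_assoc] using h)

omit B in
theorem cC (c : K) (h : x ∈ Cn y) : c⁻¹ * x * c ∈ Cn (c⁻¹ * y * c) :=
  mC.2 (by simpa [mul_assoc] using congrArg (· * c) (mC.1 h))

theorem gC (h : x ∈ Cn z) : g⁻¹ * x * g ∈ Cn j ∧ g * x * g⁻¹ ∈ Cn j :=
  ⟨B.gz' ▸ cC g h, B.gz ▸ (by simpa using cC g⁻¹ h)⟩

theorem gC' (h : x ∈ Cn j) : g⁻¹ * x * g ∈ Cn z ∧ g * x * g⁻¹ ∈ Cn z :=
  ⟨B.gj' ▸ cC g h, B.gj ▸ (by simpa using cC g⁻¹ h)⟩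

theorem PC (h : x ∈ P) : x ∈ Cn z := mC.2 (B.zc h)
theorem JC (h : x ∈ J) : x ∈ Cn j := mC.2 (B.jc h)
theorem AC (h : A k c) : c ∈ Cn z := mC.2 (B.A_comm h)

theorem R_cj (h : A k c) (e : R v x) : R (k⁻¹ • v) (c⁻¹ * x * c) := by
  simpa using B.R_conj (B.A_inv h) e

theorem normP (h : c ∈ Cn z) (hx : x ∈ P) : c⁻¹ * x * c ∈ P :=
  let ⟨_, a⟩ := B.ex_g c (mC.1 h)
  let ⟨_, b⟩ := B.ex_v x hx
  B.R_mem (B.R_cj a b)

theorem normJ (h : c ∈ Cn j) (hx : x ∈ J) : c⁻¹ * x * c ∈ J :=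
  B.mJ.2 (by simpa [mul_assoc] using B.normP (B.gC' h).1 (B.mJ.1 hx))

theorem B_comm (hx : x ∈ P ⊓ J) (hy : y ∈ P ⊓ J) : x * y = y * x :=
  (B.comm x hx.1 y hy.1).elim id fun e => (B.commJ hx.2 hy.2).elim id fun e' =>
    absurd (mul_left_cancel (e'.symm.trans e)) B.j_ne

theorem B_sq (hx : x ∈ P ⊓ J) : x * x = 1 :=
  (B.sq x hx.1).elim id fun e => (B.sqJ hx.2).elim id fun e' => absurd (e'.symm.trans e) B.j_ne

theorem B_d4 (e : R v b) (h : b ∈ J) : D4 v := d4_of fun i i' n =>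
  let ⟨_, hx⟩ := B.ex_x _ (ev_u44 i i')
  (B.comm_iff e hx).1 (B.B_comm ⟨B.R_mem e, h⟩ ⟨B.R_mem hx, B.R44 n hx⟩)

theorem A_NV (h : A k c) (hc : c ∈ Cn j) : k ∈ NV := by
  have := B.R_conj h B.R_j
  rw [mC.1 hc, mul_inv_cancel_right] at this
  exact ⟨St_e8 none ▸ B.R_cong this B.R_j, B.A_fix h⟩

theorem lift0 (hk : k ∈ NV) : ∃ c ∈ Cn j, A k c := by
  obtain ⟨c, hc⟩ := B.ex_c k hk.2
  rcases B.cases B.R_j (B.R_conj hc B.R_j) (Cong.symm (show k ∈ St _ from St_e8 none ▸ hk.1)) with e | e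
  · exact ⟨c, mC.2 (mul_inv_eq_iff_eq_mul.1 e), hc⟩
  · refine ⟨q⁻¹ * c, mC.2 (mul_inv_eq_iff_eq_mul.1 ?_),
      by simpa using B.A_mul (B.A_of (inv_mem B.q_mem)) hc⟩
    calc _ = q⁻¹ * (c * j * c⁻¹) * q := by group
      _ = j := by rw [e, ← B.q_j]; group

theorem A_P (h : A k c) (h' : A k a) : c⁻¹ * a ∈ P :=
  (B.A_ker (B.A_mul (B.A_inv h) h')).2 (inv_mul_cancel k)

open Classical in
theorem ch_eq (e : R v p) : ch F R w p = if Ev w v then 1 else -1 := by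
  unfold ch
  congr 1
  exact propext ⟨fun h => h v e, fun h v' e' => (ev_cong' (B.R_cong e e')).1 h⟩

theorem ch_pos (e : R v p) (h : Ev w v) : ch F R w p = 1 := by rw [B.ch_eq e, if_pos h]
theorem ch_neg (e : R v p) (h : ¬ Ev w v) : ch F R w p = -1 := by rw [B.ch_eq e, if_neg h]

theorem ch_iff (h2 : (2 : F) ≠ 0) {w' : Λ} (e : R v p) :
    ch F R w p = ch F R w' p ↔ (Ev w v ↔ Ev w' v) := by
  have := one_ne_neg h2
  rw [B.ch_eq e, B.ch_eq e]
  split_ifs <;> simp_all [eq_comm]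

omit B [Group K] in
theorem ch_congr {w' : Λ} (h : ∀ v, R v p → (Ev w v ↔ Ev w' v)) : ch F R w p = ch F R w' p := by
  unfold ch
  congr 1
  exact propext (forall₂_congr h)

theorem ch_sim {w' : Λ} (h : Sim w w') : ch F R w p = ch F R w' p :=
  ch_congr fun _ e => h.ev (B.R_ev e)

theorem ch_d4 {w' : Λ} (h : D4 (w - w')) (hp : p ∈ J) : ch F R w p = ch F R w' p :=
  ch_congr fun _ e => ev_sub.1 (h.ev (B.B_d4 e hp))

omit B [Group K] in
theorem ch_zero : ch F R 0 p = 1 := if_pos fun _ _ => ev_zero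

theorem ch_z : ch F R w z = 1 := B.ch_pos B.R_z (ev_comm.1 ev_zero)

theorem ch_cj (h : A k c) (hp : p ∈ P) : ch F R w (c⁻¹ * p * c) = ch F R (k • w) p := by
  obtain ⟨v, e⟩ := B.ex_v p hp
  rw [B.ch_eq e, B.ch_eq (B.R_cj h e), ev_inv]

theorem sim_of_ch (h2 : (2 : F) ≠ 0) {w' : Λ} (h : ∀ p ∈ P, ch F R w p = ch F R w' p) : Sim w w' :=
  sim_of fun v hv => let ⟨p, e⟩ := B.ex_x v hv; (B.ch_iff h2 e).1 (h p (B.R_mem e))

theorem d4_of_ch (h2 : (2 : F) ≠ 0) {w' : Λ} (h : ∀ p ∈ P ⊓ J, ch F R w p = ch F R w' p) :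
    D4 (w - w') := d4_of fun i i' n =>
  let ⟨p, e⟩ := B.ex_x _ (ev_u44 i i')
  ev_sub.2 ((B.ch_iff h2 e).1 (h p ⟨B.R_mem e, B.R44 n e⟩))

theorem sim2_of_ch (h2 : (2 : F) ≠ 0) {w' : Λ} (h : ∀ p ∈ P ⊓ Cn j, ch F R w p = ch F R w' p) :
    Sim w w' ∨ Sim w (w' + e8 none) := sim2 fun v hv e' =>
  let ⟨p, e⟩ := B.ex_x v hv
  (B.ch_iff h2 e).1 (h p ⟨B.R_mem e, mC.2 ((B.comm_iff e B.R_j).2 e')⟩)

variable {m : V}

theorem wt_cj (h : A k c) (hm : m ∈ Ws ρ P (ch F R w)) : ρ c m ∈ Ws ρ P (ch F R (k • w)) :=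
  Ws_of (Ws_cj (fun _ => B.normP (B.AC h)) hm) fun _ => B.ch_cj h

theorem wt_sim (h : Sim v w) (hm : m ∈ Ws ρ P (ch F R v)) : m ∈ Ws ρ P (ch F R w) :=
  Ws_of hm fun _ _ => B.ch_sim h

theorem wt_z (hm : m ∈ Ws ρ P (ch F R w)) : ρ z m = m := by rw [hm z B.z_mem, B.ch_z, one_smul]

theorem exists_ch {ψ : K → F} (h0 : m ≠ 0) (hm : m ∈ Ws ρ P ψ) (hz : ρ z m = m) :
    ∃ w, m ∈ Ws ρ P (ch F R w) := by
  have pm : ∀ p ∈ P, ρ p m = m ∨ ρ p m = -m := fun p hp => by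
    have : ρ (p * p) m = m := by rcases B.sq p hp with e | e <;> rw [e]; exacts [rone _ _, hz]
    rw [rmul, hm p hp, map_smul, hm p hp, smul_smul] at this
    rcases mul_self_eq_one_iff.1 (smul_left_injective F h0 (this.trans (one_smul F m).symm)) with e | e <;>
      simp [hm p hp, e]
  let N : Subgroup K :=
    { carrier := {p | p ∈ P ∧ ρ p m = m}
      one_mem' := ⟨one_mem _, rone _ _⟩
      mul_mem' := fun a b => ⟨mul_mem a.1 b.1, by rw [rmul, b.2, a.2]⟩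
      inv_mem' := fun {a} h => ⟨inv_mem h.1, by nth_rw 1 [← h.2]; rw [rinv]⟩ }
  by_cases h : ∀ p ∈ P, ρ p m = m
  · exact ⟨0, fun p hp => by rw [ch_zero, one_smul, h p hp]⟩
  push Not at h
  obtain ⟨y, hy, n⟩ := h
  obtain ⟨w, h1, h3⟩ := B.dual N (fun _ h => h.1) ⟨B.z_mem, hz⟩ y hy fun e => n e.2
  refine ⟨w, fun p hp => ?_⟩
  obtain ⟨v, e⟩ := B.ex_v p hp
  rcases pm p hp with a | a
  · rw [B.ch_pos e (h1 v p e ⟨hp, a⟩), one_smul, a]
  · obtain ⟨v', e'⟩ := B.ex_v y hy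
    rw [B.ch_neg e fun b => h3 v' e' ((ev_add'.1 (h1 _ _ (B.R_mul e e') ⟨mul_mem hp hy, by
      rw [rmul, (pm y hy).resolve_left n, map_neg, a, neg_neg]⟩)).1 b), a, neg_one_smul]

theorem splitP [Finite K] (h2 : (2 : F) ≠ 0) {Γ W : Submodule F V} (hi : ∀ x ∈ P, ∀ m ∈ Γ, ρ x m ∈ Γ)
    (hz : ∀ m ∈ Γ, ρ z m = m) (hW : ∀ w, ∀ m ∈ Γ, m ≠ 0 → m ∈ Ws ρ P (ch F R w) → m ∈ W) : Γ ≤ W := by
  refine split h2 (Set.toFinite (P : Set K)) hi (fun x hx m hm => ?_) (fun x hx y hy m hm => ?_)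
    fun ψ m hm e => ?_
  · rw [← rmul]; rcases B.sq x hx with e | e <;> rw [e]; exacts [rone _ _, hz m hm]
  · rw [← rmul, ← rmul]; rcases B.comm x hx y hy with e | e <;> rw [e]; rw [rmul, hz m hm]
  · by_cases h0 : m = 0
    · exact h0 ▸ zero_mem _
    · obtain ⟨w, hw⟩ := B.exists_ch h0 e (hz m hm)
      exact hW w m hm h0 hw

end BG

end CL.B43
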