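import Cfsg.Agent.SPOR.B43.Rep1

/-!
The weights of a small representation.
-/

set_option autoImplicit false

namespace CL.B43

open Cfsg Cfsg.Spor CL.Leech CL.MT MulAction Module Submodule

local notation "Λ" => leechLattice
local notation "u" => leechU

variable {K : Type*} [Group K] {z t j q r g : K} {P J : Subgroup K} {R : Λ → K → Prop}
  {A : Co0 → K → Prop} {F : Type*} [Field F] {V : Type*} [AddCommGroup V] [Module F V]
  {ρ : Representation F K V}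

/-- the weight structure of a small representation -/
structure RP (ρ : Representation F K V) (P J : Subgroup K) (R : Λ → K → Prop) (p : V) : Prop where
  ne : p ≠ 0
  wt : p ∈ Ws ρ P (ch F R (nv 0))
  ok : ∀ {x m}, m ≠ 0 → m ∈ Ws ρ P (ch F R x) → OK x
  el : ∀ {x m m'}, ¬ Ev x (e8 none) → Ev u x → m ≠ 0 → m ∈ Ws ρ (P ⊓ J :) (ch F R x) →
    m' ∈ Ws ρ (P ⊓ J :) (ch F R x) → ∃ c : F, m' = c • m
  dim : finrank F (Ws ρ P (ch F R 0)) + 4348 ≤ finrank F V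

theorem mem_one {x : K} {c : F} {m : V} : m ∈ Ws ρ {x} (fun _ => c) ↔ ρ x m = c • m := by
  simp [mem_Ws]

theorem OK.ev {x : Λ} (h : OK x) : Ev u x :=
  h.elim (fun e => e.ev_u.2 (ev_comm.1 ev_zero)) fun ⟨_, hy, e⟩ => e.ev_u.2 (ev_of_mem hy)

theorem ev_e8_zero : Ev (0 : Λ) (e8 none) := ev_zero

theorem d4_e8 : D4 (e8 none) := Or.inl (by decide)

namespace BG

variable (B : BG z t j q r g P J R A) {x y c a b : K} {k : Co0} {v w : Λ} {m : V}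
include B

theorem jj : j⁻¹ = j := inv_eq_of_mul_eq_one_right B.j_sq
theorem zz : z⁻¹ = z := inv_eq_of_mul_eq_one_right B.z_sq
theorem zB : z ∈ P ⊓ J := ⟨B.z_mem, B.z_mem'⟩
theorem jB : j ∈ P ⊓ J := ⟨B.j_mem, B.j_mem'⟩

theorem qj' : q⁻¹ * j * q = j * z := by
  have : q⁻¹ * (j * z) * q = j := by rw [← B.q_j]; group
  calc _ = q⁻¹ * (j * z) * q * (q⁻¹ * z⁻¹ * q) := by group
    _ = _ := by rw [this, B.zz, mul_assoc q⁻¹, ← B.zc B.q_mem, inv_mul_cancel_left]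

theorem normB (h : c ∈ Cn z) (h' : c ∈ Cn j) (hx : x ∈ P ⊓ J) : c⁻¹ * x * c ∈ P ⊓ J :=
  ⟨B.normP h hx.1, B.normJ h' hx.2⟩

theorem normB' (h : c ∈ P) (hx : x ∈ P ⊓ J) : c⁻¹ * x * c ∈ P ⊓ J := by
  rcases B.comm x hx.1 c h with e | e <;> rw [mul_assoc, e]
  · rwa [inv_mul_cancel_left]
  · rw [mul_assoc c, inv_mul_cancel_left]; exact mul_mem hx B.zB

theorem gB (hx : x ∈ P ⊓ J) : g⁻¹ * x * g ∈ P ⊓ J ∧ g * x * g⁻¹ ∈ P ⊓ J :=
  ⟨⟨B.mJ.1 hx.2, B.mP.1 hx.1⟩, B.mP' hx.2, B.mJ' hx.1⟩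

theorem wt_cjB (h : A k c) (h' : c ∈ Cn j) (hm : m ∈ Ws ρ (P ⊓ J :) (ch F R w)) :
    ρ c m ∈ Ws ρ (P ⊓ J :) (ch F R (k • w)) :=
  Ws_of (Ws_cj (fun _ => B.normB (B.AC h) h') hm) fun _ hx => B.ch_cj h hx.1

/-- on the fixed space of `z` the group `P` is commutative -/
theorem P_inv {L : Set K} {ψ : K → F} (hL : L ⊆ P) (hx : x ∈ P) (hz : ρ z m = m)
    (hm : m ∈ Ws ρ L ψ) : ρ x m ∈ Ws ρ L ψ := fun y hy => by
  rw [← rmul]
  rcases B.comm y (hL hy) x hx with e | e <;> rw [e]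
  · rw [rmul, hm y hy, map_smul]
  · rw [rmul, hz, rmul, hm y hy, map_smul]

theorem exists_wtP [Finite K] (h2 : (2 : F) ≠ 0) {Γ : Submodule F V}
    (hi : ∀ x ∈ P, ∀ m ∈ Γ, ρ x m ∈ Γ) (hz : ∀ m ∈ Γ, ρ z m = m) (hm : m ∈ Γ) (h0 : m ≠ 0) :
    ∃ w, ∃ m ∈ Γ, m ≠ 0 ∧ m ∈ Ws ρ P (ch F R w) := by
  by_contra! hn
  exact h0 (B.splitP h2 (W := ⊥) hi hz (fun w m hm e e' => absurd e' (hn w m hm e)) hm)

/-- splitting of a joint eigenspace of a subset of `P` which contains `z` -/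
theorem splitL [Finite K] (h2 : (2 : F) ≠ 0) {L : Set K} {ψ : K → F} (hL : L ⊆ P) (hz : z ∈ L)
    (h1 : ψ z = 1) {W : Submodule F V}
    (hW : ∀ w m, m ≠ 0 → m ∈ Ws ρ P (ch F R w) → (∀ x ∈ L, ch F R w x = ψ x) → m ∈ W) :
    Ws ρ L ψ ≤ W :=
  have a : ∀ m ∈ Ws ρ L ψ, ρ z m = m := fun m hm => by rw [hm z hz, h1, one_smul]
  B.splitP h2 (fun _ hx m hm => B.P_inv hL hx (a m hm) hm) a fun w m hm e e' =>
    hW w m e e' (Ws_eq e (Ws_mono hL e') hm)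

theorem exists_L [Finite K] (h2 : (2 : F) ≠ 0) {L : Set K} {ψ : K → F} (hL : L ⊆ P) (hz : z ∈ L)
    (h1 : ψ z = 1) (hm : m ∈ Ws ρ L ψ) (h0 : m ≠ 0) :
    ∃ w m, m ≠ 0 ∧ m ∈ Ws ρ P (ch F R w) ∧ ∀ x ∈ L, ch F R w x = ψ x := by
  by_contra! hn
  exact h0 (B.splitL h2 hL hz h1 (W := ⊥) (fun w m e e' h => let ⟨x, hx, n⟩ := hn w m e e'
    absurd (h x hx) n) hm)

theorem ch_j (h : ¬ Ev w (e8 none)) : ch F R w j = -1 := B.ch_neg B.R_j h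
theorem ch_j' (h : Ev w (e8 none)) : ch F R w j = 1 := B.ch_pos B.R_j h

variable (ρ) in
omit B in
/-- the piece on which `z` is trivial and `j` is not -/
abbrev Ee (z j : K) : Submodule F V := Ws ρ {z} (fun _ => 1) ⊓ Ws ρ {j} fun _ => -1

theorem dim_ge [FiniteDimensional F V] (h2 : (2 : F) ≠ 0) :
    finrank F (Ws ρ {z} fun _ => 1) + 2 * finrank F (Ee ρ z j) ≤ finrank F V := by
  have a : ∀ m ∈ Ee ρ z j, ρ z (ρ g m) = (-1 : F) • ρ g m ∧ ρ j (ρ g m) = (1 : F) • ρ g m := fun m hm =>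
    ⟨by rw [rcj, B.gz', mem_one.1 hm.2, map_smul], by rw [rcj, B.gj', mem_one.1 hm.1, map_smul]⟩
  have h1 := two_le (ρ := ρ) h2 j (a := (Ee ρ z j).map (ρ g)) (b := (Ee ρ z j).map (ρ (q * g)))
    (Y := Ws ρ {z} fun _ => -1) (by rintro _ ⟨m, hm, rfl⟩; exact mem_one.2 (a m hm).2)
    (by
      rintro _ ⟨m, hm, rfl⟩
      rw [mem_one, rmul, rcj, B.qj', rmul, (a m hm).1, map_smul, (a m hm).2, one_smul, map_smul])
    (by rintro _ ⟨m, hm, rfl⟩; exact mem_one.2 (a m hm).1)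
    (by
      rintro _ ⟨m, hm, rfl⟩
      rw [mem_one, rmul, ← rmul, ← B.zc B.q_mem, rmul, (a m hm).1, map_smul])
  have h3 := two_le (ρ := ρ) h2 z (Y := ⊤) le_rfl le_rfl le_top le_top
  rw [finrank_map_rep, finrank_map_rep] at h1
  rw [finrank_top] at h3
  omega

theorem d_le (h : ¬ Ev w (e8 none)) : Ws ρ (P ⊓ J :) (ch F R w) ≤ Ee ρ z j := fun m hm =>
  ⟨mem_one.2 (by rw [hm z B.zB, B.ch_z]), mem_one.2 (by rw [hm j B.jB, B.ch_j h])⟩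

theorem d_dim [FiniteDimensional F V] (h2 : (2 : F) ≠ 0) (h : ¬ Ev w (e8 none)) :
    1024 * finrank F (Ws ρ (P ⊓ J :) (ch F R w)) ≤ finrank F (Ee ρ z j) := by
  obtain ⟨s, hs, hE⟩ := exists_E
  choose! a ha ha' using B.ex_a
  have k : ∀ ε ∈ s, (Ws ρ (P ⊓ J :) (ch F R w)).map (ρ (a ε)) ≤ Ws ρ (P ⊓ J :) (ch F R (ε • w)) := by
    rintro ε hε _ ⟨m, hm, rfl⟩
    exact B.wt_cjB (ha' ε (hE ε hε).1 (hE ε hε).2) (B.JC (ha ε (hE ε hε).1 (hE ε hε).2)) hm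
  have := sum_le s _ _ k (fun ε hε δ hδ e => by
      have := (B.d4_of_ch h2 e).smul (inv_mem (Sgn_le_NN (hE δ hδ).1))
      rw [smul_sub, inv_smul_smul, smul_smul] at this
      exact (inv_mul_eq_one.1 (eps_sep h (mul_mem (inv_mem (hE δ hδ).1) (hE ε hε).1) (by
        rw [mul_smul, (hE ε hε).2, inv_smul_eq_iff, (hE δ hδ).2]) this)).symm)
    fun ε hε => (k ε hε).trans (B.d_le (mt (odd_NN (Sgn_le_NN (hE ε hε).1)).1 h))
  simp only [finrank_map_rep, Finset.sum_const, smul_eq_mul] at this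
  exact (Nat.mul_le_mul_right _ hs).trans this

theorem exists_e (hz : ρ z ≠ 1) : ∃ m ∈ Ee ρ z j, m ≠ 0 := by
  obtain ⟨v, hv⟩ : ∃ v, ρ z v ≠ v := by
    by_contra! h; exact hz (LinearMap.ext h)
  have k : ∀ m, m ≠ 0 → ρ z m = -m → ρ j m = m → ∃ m ∈ Ee ρ z j, m ≠ 0 := fun m h0 e e' =>
    ⟨ρ g m, ⟨mem_one.2 (by rw [rcj, B.gz', e', one_smul]),
      mem_one.2 (by rw [rcj, B.gj', e, map_neg, neg_one_smul])⟩, rne _ _ h0⟩
  have e : ρ z (ρ z v - v) = -(ρ z v - v) := by rw [map_sub, ← rmul, B.z_sq, rone, neg_sub]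
  have h0 := sub_ne_zero.2 hv
  generalize ρ z v - v = m at e h0
  by_cases h : m + ρ j m = 0
  · refine k (ρ q m) (rne _ _ h0) (by rw [← rmul, ← B.zc B.q_mem, rmul, e, map_neg]) ?_
    rw [rcj, B.qj', rmul, e, map_neg, eq_neg_of_add_eq_zero_right h, neg_neg]
  · refine k _ h ?_ (by rw [map_add, ← rmul, B.j_sq, rone, add_comm])
    rw [map_add, ← rmul, ← B.zc B.j_mem, rmul, e, map_neg, neg_add]

theorem exists_rp [Finite K] [FiniteDimensional F V] (h2 : (2 : F) ≠ 0) (ht : ρ t = 1) (hz : ρ z ≠ 1)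
    (hd : finrank F V ≤ 4371) : ∃ p, RP ρ P J R p := by
  have d1 := B.dim_ge (ρ := ρ) h2
  have d2 : finrank F (Ee ρ z j) ≤ finrank F (Ws ρ {z} fun _ => 1) := finrank_mono inf_le_left
  have el : ∀ {x m m'}, ¬ Ev x (e8 none) → m ≠ 0 → m ∈ Ws ρ (P ⊓ J :) (ch F R x) →
      m' ∈ Ws ρ (P ⊓ J :) (ch F R x) → ∃ c : F, m' = c • m := fun {x m m'} h h0 a b => by
    have := B.d_dim (ρ := ρ) h2 h
    obtain ⟨c, hc⟩ := (finrank_eq_one_iff_of_nonzero' (K := F) (⟨m, a⟩ : Ws ρ (P ⊓ J :) (ch F R x))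
      (fun e => h0 (congrArg Subtype.val e))).1 (le_antisymm (by omega)
        (finrank_pos_iff_exists_ne_zero.2 ⟨⟨m, a⟩, fun e => h0 (congrArg Subtype.val e)⟩)) ⟨m', b⟩
    exact ⟨c, (congrArg Subtype.val hc).symm⟩
  have hS : ∀ (k : Co0) x, k • u = u → (∃ m, m ≠ 0 ∧ m ∈ Ws ρ P (ch F R x)) →
      ∃ m, m ≠ 0 ∧ m ∈ Ws ρ P (ch F R (k • x)) := fun k x hk ⟨m, h0, hm⟩ =>
    let ⟨c, hc⟩ := B.ex_c k hk
    ⟨ρ c m, rne _ _ h0, B.wt_cj hc hm⟩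
  have ok : ∀ {x m}, m ≠ 0 → m ∈ Ws ρ P (ch F R x) → OK x := fun h0 hm =>
    classify (W := fun x => ∃ m, m ≠ 0 ∧ m ∈ Ws ρ P (ch F R x)) (fun x ⟨m, h0, hm⟩ => by
      by_contra n
      have := hm t (B.R_mem B.R_t)
      rw [ht, B.ch_neg B.R_t (mt ev_comm.1 n), neg_one_smul] at this
      exact h0 (eq_zero_of_neg h2 this)) hS (fun x y ⟨m, h0, hm⟩ ⟨m', h0', hm'⟩ ho h4 => by
        obtain ⟨c, rfl⟩ := el ho h0 (Ws_mono (fun _ h => h.1) hm)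
          (Ws_of (Ws_mono (fun _ h => h.1) hm') fun _ h => (B.ch_d4 h4 h.2).symm)
        exact B.sim_of_ch h2 (Ws_eq h0' (smul_mem _ c hm) hm')) ⟨_, h0, hm⟩
  obtain ⟨m, hm, h0⟩ := B.exists_e hz
  obtain ⟨w, m, hm, h0, e⟩ := B.exists_wtP h2 (Γ := Ee ρ z j) (fun x hx m hm =>
    have := (mem_one.1 hm.1).trans (one_smul _ _)
    ⟨B.P_inv (by simpa using B.z_mem) hx this hm.1, B.P_inv (by simpa using B.j_mem) hx this hm.2⟩)
    (fun m hm => (mem_one.1 hm.1).trans (one_smul _ _)) hm h0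
  have ho : ¬ Ev w (e8 none) := fun n => one_ne_neg h2 (smul_left_injective F h0 (by
    simpa only [B.ch_j' n] using (e j B.j_mem).symm.trans (mem_one.1 hm.2)))
  obtain ⟨y, hy, e'⟩ := (ok h0 e).resolve_left fun n => ho (n.odd.2 ev_zero)
  have all : ∀ x ∈ Mset u 16, ∃ m, m ≠ 0 ∧ m ∈ Ws ρ P (ch F R x) := fun x hx => by
    obtain ⟨k, hk, rfl⟩ := M_trans hx
    obtain ⟨l, hl, rfl⟩ := M_trans hy
    simpa using hS k _ hk (hS l⁻¹ _ (inv_smul_eq_iff.2 hl.symm) ⟨m, h0, B.wt_sim e' e⟩)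
  obtain ⟨p, p0, hp⟩ := all _ nv_mem.1
  refine ⟨p, p0, hp, ok, fun h _ => el h, ?_⟩
  have d3 := B.d_dim (ρ := ρ) h2 ho
  have d4 : 0 < finrank F (Ws ρ (P ⊓ J :) (ch F R w)) := finrank_pos_iff_exists_ne_zero.2
    ⟨⟨m, Ws_mono (fun _ h => h.1) e⟩, fun e => h0 (congrArg Subtype.val e)⟩
  obtain ⟨s, hs, s1, s2⟩ := exists_M
  classical
  have n0 : (0 : Λ) ∉ s := fun h => not_sim0 (s1 _ h) (Sim.refl _)
  have := sum_le (ρ := ρ) (insert 0 s) (fun x => Ws ρ P (ch F R x)) (ch F R) (fun _ _ => le_rfl)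
    (fun x hx y hy e => by
      have := B.sim_of_ch h2 e
      rcases Finset.mem_insert.1 hx with rfl | hx <;> rcases Finset.mem_insert.1 hy with rfl | hy
      exacts [rfl, absurd this.symm (not_sim0 (s1 _ hy)), absurd this (not_sim0 (s1 _ hx)),
        s2 _ hx _ hy this]) (Y := Ws ρ {z} fun _ => 1)
    fun x _ m hm => mem_one.2 ((B.wt_z hm).trans (one_smul _ _).symm)
  rw [Finset.sum_insert n0] at this
  have d5 := Finset.card_nsmul_le_sum s (fun x => finrank F (Ws ρ P (ch F R x))) 1 fun x hx =>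
    let ⟨m, h0, hm⟩ := all x (s1 x hx)
    finrank_pos_iff_exists_ne_zero.2 ⟨⟨m, hm⟩, fun e => h0 (congrArg Subtype.val e)⟩
  rw [smul_eq_mul] at d5
  omega

end BG

end CL.B43
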