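import Cfsg.Agent.SPOR.B43.Rep2

/-!
The module for the stabiliser of the minimal vector on the fixed space of `P`.
-/

set_option autoImplicit false

namespace CL.B43

open Cfsg Cfsg.Spor CL.Leech CL.MT MulAction Module Submodule

local notation "Λ" => leechLattice
local notation "u" => leechU

variable {K : Type*} [Group K] {z t j q r g a0 : K} {P J : Subgroup K} {R : Λ → K → Prop}
  {A : Co0 → K → Prop} {F : Type*} [Field F] {V : Type*} [AddCommGroup V] [Module F V]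
  {ρ : Representation F K V} {V' : Type*} [AddCommGroup V'] [Module F V']
  {ρ' : Representation F K V'} {p : V} {p' : V'}

/-- the basic vector -/
structure VP (ρ : Representation F K V) (P J : Subgroup K) (R : Λ → K → Prop) (A : Co0 → K → Prop)
    (a0 : K) (p : V) : Prop where
  wt : p ∈ Ws ρ P (ch F R (nv 0))
  s7 : ∀ {a ε}, a ∈ J → A ε a → ε • e8 (some 1) = e8 (some 1) → ρ a p = p
  fix : ∀ y ∈ J, ρ y (p + ρ a0 p) = p + ρ a0 p

theorem VP.prod (M : VP ρ P J R A a0 p) (M' : VP ρ' P J R A a0 p') :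
    VP (ρ.prod ρ') P J R A a0 (p, p') :=
  ⟨Ws_prod.2 ⟨M.wt, M'.wt⟩, fun a b c => Prod.ext (M.s7 a b c) (M'.s7 a b c),
    fun y hy => Prod.ext (M.fix y hy) (M'.fix y hy)⟩

theorem nv_ev : Ev (nv 0) (e8 none) := nv_d4.1.ev d4_e8

theorem pow_smul_rep {x : K} {c : F} (h : ρ x p = c • p) (n : ℕ) : ρ (x ^ n) p = c ^ n • p := by
  induction n with
  | zero => rw [pow_zero, pow_zero, rone, one_smul]
  | succ n ih => rw [pow_succ, rmul, h, map_smul, ih, smul_smul, pow_succ']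

namespace BG

variable (B : BG z t j q r g P J R A) {x y c a b : K} {k ε : Co0} {v w : Λ} {m m' : V}
include B

theorem A_pow (h : A k c) (n : ℕ) : A (k ^ n) (c ^ n) := by
  induction n with
  | zero => simpa using B.A_of (one_mem P)
  | succ n ih => rw [pow_succ, pow_succ]; exact B.A_mul ih h

theorem A_cj {l : Co0} {d : K} (h : A k c) (h' : A l d) : A (l⁻¹ * k * l) (d⁻¹ * c * d) :=
  B.A_mul (B.A_mul (B.A_inv h') h) h'

theorem lineM (M : RP ρ P J R p) (hw : w ∈ Mset u 16) (h0 : m ≠ 0) (hm : m ∈ Ws ρ P (ch F R w))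
    (hm' : m' ∈ Ws ρ P (ch F R w)) : ∃ c : F, m' = c • m := by
  obtain ⟨k, hk, rfl⟩ := M_trans hw
  obtain ⟨l, hl, e⟩ := M_trans nv_mem.2.2
  obtain ⟨c, hc⟩ := B.ex_c (l * k⁻¹) (by rw [mul_smul, inv_smul_eq_iff.2 hk.symm, hl])
  have a := B.wt_cj hc hm
  have b := B.wt_cj hc hm'
  rw [mul_smul, inv_smul_smul, e] at a b
  obtain ⟨s, hs⟩ := M.el nv_odd.2 (ev_of_mem nv_mem.2.2) (rne _ c h0) (Ws_mono (fun _ h => h.1) a)
    (Ws_mono (fun _ h => h.1) b)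
  exact ⟨s, by rw [← rinv ρ c m', hs, map_smul, rinv]⟩

theorem scal0 (M : RP ρ P J R p) (h : A k c) (e : Sim (k • nv 0) (nv 0)) : ∃ s : F, ρ c p = s • p :=
  B.lineM M nv_mem.1 M.ne M.wt (B.wt_sim e (B.wt_cj h M.wt))

theorem fixB (h : D4 w) (hm : m ∈ Ws ρ P (ch F R w)) (hb : b ∈ P ⊓ J) : ρ b m = m := by
  rw [hm b hb.1, B.ch_d4 (w' := 0) (by simpa using h) hb.2, ch_zero, one_smul]

theorem s7 (M : RP ρ P J R p) (ha : a ∈ J) (h : A ε a) (e : ε • e8 (some 1) = e8 (some 1)) :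
    ρ a p = p := by
  have hε := B.lift ha h
  obtain ⟨π, h1, h2, h3, h4⟩ := exists_seven
  obtain ⟨c, hc, hc'⟩ := B.lift0 h1
  obtain ⟨α, hα⟩ := B.scal0 M h (by rw [(eps_nv hε (B.A_fix h)).1 e]; exact Sim.refl _)
  obtain ⟨β, hβ⟩ := B.scal0 M hc' (by
    rw [show π • nv 0 = nv 0 from two_inj (by rw [← smul_nsmul, two_nv, smul_add, h2, h3])]
    exact Sim.refl _)
  have k : ∀ n : ℕ, (a * c) ^ n * (c ^ n)⁻¹ ∈ J := fun n => by
    induction n with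
    | zero => simp
    | succ n ih =>
      have := mul_mem ha (B.normJ (inv_mem hc) ih)
      convert this using 1
      rw [pow_succ', pow_succ']; group
  have k' : (a * c) ^ 7 * (c ^ 7)⁻¹ ∈ P := (B.A_ker (B.A_mul (B.A_pow (B.A_mul h hc') 7)
    (B.A_inv (B.A_pow hc' 7)))).2 (by rw [h4 ε hε (B.A_fix h) e, mul_inv_cancel])
  have e1 := pow_smul_rep (ρ := ρ) (p := p) (x := a * c) (c := β * α)
    (by rw [rmul, hβ, map_smul, hα, smul_smul]) 7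
  rw [← inv_mul_cancel_right ((a * c) ^ 7) (c ^ 7), rmul, pow_smul_rep hβ, map_smul,
    B.fixB nv_d4.1 M.wt ⟨k', k 7⟩, mul_pow] at e1
  have b0 : β ≠ 0 := fun e => rne ρ c M.ne (by rw [hβ, e, zero_smul])
  have e2 : α ^ 7 = 1 := (mul_eq_left₀ (pow_ne_zero 7 b0)).1 (smul_left_injective F M.ne e1).symm
  have e3 : α ^ 2 = 1 := smul_left_injective F M.ne (by
    show α ^ 2 • p = (1 : F) • p
    rw [← pow_smul_rep hα, sq, one_smul]
    rcases B.sqJ ha with e | e <;> rw [e]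
    exacts [rone _ _, B.fixB nv_d4.1 M.wt B.jB])
  rw [hα, show α = 1 by rw [← e2, show α ^ 7 = (α ^ 2) ^ 3 * α by ring, e3, one_pow, one_mul], one_smul]

/-- weights of `P ⊓ C(j)` -/
theorem splitAz [Finite K] (h2 : (2 : F) ≠ 0) {W : Submodule F V}
    (h : ∀ m, m ≠ 0 → m ∈ Ws ρ P (ch F R w) → m ∈ W)
    (h' : ∀ m, m ≠ 0 → m ∈ Ws ρ P (ch F R (w + e8 none)) → m ∈ W) :
    Ws ρ (P ⊓ Cn j :) (ch F R w) ≤ W :=
  B.splitL h2 (L := (P ⊓ Cn j :)) (fun _ h => h.1) ⟨B.z_mem, mC.2 (B.zc B.j_mem).symm⟩ B.ch_z fun _ m h0 hm e =>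
    (B.sim2_of_ch h2 e).elim (fun e => h m h0 (B.wt_sim e hm)) fun e => h' m h0 (B.wt_sim e hm)

theorem fixJ [Finite K] (h2 : (2 : F) ≠ 0) (M : RP ρ P J R p)
    (h : ∀ a ∈ J, a ∈ Cn z → ρ a m = m) : ∀ y ∈ J, ρ y m = m := fun y hy => by
  have : ρ g m ∈ Ws ρ P (ch F R 0) := B.splitAz h2 (fun _ _ h => h)
    (fun m h0 hm => absurd (M.ok h0 hm) (by simpa using not_OK_e8)) fun x hx => by
      rw [rcj, h _ (B.mP.1 hx.1) (B.gC' hx.2).1, ch_zero, one_smul]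
  have := this _ (B.mP' hy)
  rw [ch_zero, one_smul, rmul, rinv, rmul] at this
  rw [← rinv ρ g (ρ y m), this, rinv]

theorem sw (ha0 : a0 ∈ J) (hA : A sT a0)
    (s7 : ∀ {a ε}, a ∈ J → A ε a → ε • e8 (some 1) = e8 (some 1) → ρ a p = p) (ha : a ∈ J)
    (h : A ε a) : (ε • e8 (some 1) = e8 (some 1) ∧ ρ a p = p ∧ ρ a (ρ a0 p) = ρ a0 p) ∨
      (ε • e8 (some 1) = -e8 (some 1) ∧ ρ a p = ρ a0 p ∧ ρ a (ρ a0 p) = p) := by
  have e0 : sT⁻¹ • e8 (some 1) = -e8 (some 1) := by rw [inv_smul_eq_iff, smul_neg, sT_e8, neg_neg]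
  refine (B.lift ha h (some 1)).imp (fun e => ⟨e, s7 ha h e, ?_⟩) fun e => ⟨e, ?_, ?_⟩
  · rw [rcj, s7 (B.normJ (B.JC ha0) ha) (B.A_cj h hA) (by
      rw [mul_smul, mul_smul, sT_e8, smul_neg, e, smul_neg, e0, neg_neg])]
  · rw [← mul_inv_cancel_left a0 a, rmul, s7 (mul_mem (inv_mem ha0) ha) (B.A_mul (B.A_inv hA) h) (by
      rw [mul_smul, e, smul_neg, e0, neg_neg])]
  · rw [← rmul, s7 (mul_mem ha ha0) (B.A_mul h hA) (by rw [mul_smul, sT_e8, smul_neg, e, neg_neg])]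

theorem vp [Finite K] (h2 : (2 : F) ≠ 0) (M : RP ρ P J R p) (ha0 : a0 ∈ J) (hA : A sT a0) :
    VP ρ P J R A a0 p :=
  ⟨M.wt, B.s7 M, B.fixJ h2 M fun a ha h => by
    obtain ⟨ε, e⟩ := B.ex_g a (mC.1 h)
    rcases B.sw ha0 hA (B.s7 M) ha e with ⟨-, e, e'⟩ | ⟨-, e, e'⟩ <;> rw [map_add, e, e']
    exact add_comm _ _⟩

theorem ch_q (x : Λ) : ch F R (x + e8 none) q = -ch F R x q := by
  obtain ⟨v, e⟩ := B.ex_v q B.q_mem
  have n : ¬ Ev (e8 none) v := fun n => B.j_ne (by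
    have := B.q_j
    rw [← (B.comm_iff B.R_j e).2 n, mul_inv_cancel_right] at this
    have z1 := left_eq_mul.1 this
    rw [← B.gz, z1]; simp)
  by_cases h : Ev x v
  · rw [B.ch_pos e h, B.ch_neg e (by rw [ev_add]; tauto)]
  · rw [B.ch_neg e h, B.ch_pos e (by rw [ev_add]; tauto), neg_neg]

omit B [Group K] in
theorem ch_sq : ch F R w x * ch F R w x = 1 := by
  unfold ch; split_ifs <;> simp

section vp

variable (ha0 : a0 ∈ J) (hA : A sT a0) (M : VP ρ P J R A a0 p)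
include hA M

theorem wt1 : ρ a0 p ∈ Ws ρ P (ch F R (nv 0 + e8 none)) :=
  B.wt_sim (Or.inl cong_nv.symm) (B.wt_cj hA M.wt)

theorem q_add : ρ q (p + ρ a0 p) = ch F R (nv 0) q • (p - ρ a0 p) := by
  rw [map_add, M.wt q B.q_mem, B.wt1 hA M q B.q_mem, B.ch_q, smul_sub, neg_smul, sub_eq_add_neg]

theorem q_sub : ρ q (p - ρ a0 p) = ch F R (nv 0) q • (p + ρ a0 p) := by
  rw [map_sub, M.wt q B.q_mem, B.wt1 hA M q B.q_mem, B.ch_q, smul_add, neg_smul, sub_neg_eq_add]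

theorem q_inv : ρ q⁻¹ (p - ρ a0 p) = ch F R (nv 0) q • (p + ρ a0 p) ∧
    ρ q⁻¹ (p + ρ a0 p) = ch F R (nv 0) q • (p - ρ a0 p) :=
  ⟨by rw [← rinv ρ q (_ • _), map_smul (ρ q), B.q_add hA M, smul_smul, ch_sq, one_smul],
    by rw [← rinv ρ q (_ • _), map_smul (ρ q), B.q_sub hA M, smul_smul, ch_sq, one_smul]⟩

theorem g_sub : ρ g (p - ρ a0 p) = p - ρ a0 p := by
  rw [B.g_eq, rmul, rmul, (B.q_inv hA M).1, map_smul, M.fix r B.r_mem, map_smul, B.q_add hA M, smul_smul,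
    ch_sq, one_smul]

omit hA in
theorem f_mem : ρ g (p + ρ a0 p) ∈ Ws ρ P (ch F R 0) := fun x hx => by
  rw [rcj, M.fix _ (B.mP.1 hx), ch_zero, one_smul]

theorem f_eq : ρ g (p + ρ a0 p) = ch F R (nv 0) q • ρ r (p - ρ a0 p) := by
  have := B.f_mem M _ (inv_mem B.q_mem)
  rw [ch_zero, one_smul] at this
  rw [← this, B.g_eq, rmul, rmul, rinv, (B.q_inv hA M).2, map_smul]

theorem Az_sub : p - ρ a0 p ∈ Ws ρ (P ⊓ Cn j :) (ch F R (nv 0)) :=
  sub_mem (Ws_mono (fun _ h => h.1) M.wt) (Ws_of (Ws_mono (fun _ h => h.1) (B.wt1 hA M)) fun x hx =>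
    ch_congr fun v e => by
      rw [ev_add, ev_comm (x := e8 none), iff_true_right ((B.comm_iff e B.R_j).1 (mC.1 hx.2))])

theorem ne_sub (h2 : (2 : F) ≠ 0) (h0 : p ≠ 0) : p - ρ a0 p ≠ 0 := fun e => by
  have := Ws_eq h0 M.wt (by rw [sub_eq_zero.1 e]; exact B.wt1 hA M) q B.q_mem
  rw [B.ch_q] at this
  have h := ch_sq (F := F) (R := R) (w := nv 0) (x := q)
  rw [eq_zero_of_neg (V := F) h2 this, zero_mul] at h
  exact zero_ne_one h

include ha0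

theorem a_sub (ha : a ∈ J) (h : A ε a) : ρ a (p - ρ a0 p) = lam F (some 1) ε • (p - ρ a0 p) := by
  rcases B.sw ha0 hA M.s7 ha h with ⟨e1, e, e'⟩ | ⟨e1, e, e'⟩ <;> rw [map_sub, e, e']
  · rw [lam_pos e1, one_smul]
  · rw [lam_neg e1, neg_one_smul, neg_sub]

theorem a_f (ha : a ∈ J) (h : A ε a) :
    ρ a (ρ g (p + ρ a0 p)) = lam F (some 1) ε • ρ g (p + ρ a0 p) := by
  rw [B.f_eq hA M, map_smul, smul_comm, ← rmul]
  rcases B.commJ ha B.r_mem with e | e <;> rw [e]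
  · rw [rmul, B.a_sub ha0 hA M ha h, map_smul]
  · rw [rmul, B.Az_sub hA M j ⟨B.j_mem, mC.2 rfl⟩, B.ch_j' nv_ev, one_smul, rmul, B.a_sub ha0 hA M ha h,
      map_smul]

theorem ch_lam (h0 : p - ρ a0 p ≠ 0) (ha : a ∈ J) (h : A ε a) :
    ch F R (nv 0) (g⁻¹ * a * g) = lam F (some 1) ε := smul_left_injective F h0 (by
  have := B.Az_sub hA M _ ⟨B.mJ.1 ha, (B.gC (B.AC h)).1⟩
  rw [rmul, B.g_sub hA M, rmul, B.a_sub ha0 hA M ha h, map_smul, ← B.g_sub hA M, rinv,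
    B.g_sub hA M] at this
  exact this.symm)

end vp

/-- chosen lifts -/
noncomputable def lf (k : S) : K := (B.ex_c k k.2).choose

theorem lf_A (k : S) : A k (B.lf k) := (B.ex_c k k.2).choose_spec

theorem fixU (h : A k c) (h' : A k a) (hm : m ∈ Ws ρ P (ch F R 0)) : ρ a m = ρ c m := by
  rw [← mul_inv_cancel_left c a, rmul, hm _ (B.A_P h h'), ch_zero, one_smul]

variable (ρ) in
/-- the action on the fixed space of `P` -/
noncomputable def tau : Representation F S (Ws ρ P (ch F R 0)) where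
  toFun k := (ρ (B.lf k)).restrict fun m hm => by simpa using B.wt_cj (B.lf_A k) hm
  map_one' := LinearMap.ext fun m => Subtype.ext
    ((B.fixU (B.A_of (one_mem P)) (B.lf_A 1) m.2).trans (rone _ _))
  map_mul' k l := LinearMap.ext fun m => Subtype.ext
    ((B.fixU (B.A_mul (B.lf_A k) (B.lf_A l)) (B.lf_A (k * l)) m.2).trans (rmul _ _ _ _))

theorem tau_eq {k : S} (h : A k c) (m : Ws ρ P (ch F R 0)) : (B.tau ρ k m : V) = ρ c m :=
  B.fixU h (B.lf_A k) m.2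

theorem hu [Finite K] (h2 : (2 : F) ≠ 0) (ha0 : a0 ∈ J) (hA : A sT a0) (M : RP ρ P J R p) :
    HU (B.tau ρ) ⟨ρ g (p + ρ a0 p), B.f_mem (B.vp h2 M ha0 hA)⟩ := by
  have N := B.vp h2 M ha0 hA
  have n0 := B.ne_sub hA N h2 M.ne
  have gJ : ∀ w : Ws ρ P (ch F R 0), ∀ y ∈ J, ρ y (ρ g⁻¹ w) = ρ g⁻¹ w := fun w y hy => by
    rw [rcj, inv_inv, w.2 _ (B.mP' hy), ch_zero, one_smul]
  have lA : ∀ x ∈ P ⊓ Cn j, ∃ ε ∈ ES, A ε (g * x * g⁻¹) := fun x hx =>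
    let ⟨ε, e⟩ := B.ex_g _ (mC.1 (B.gC' hx.2).2)
    ⟨⟨ε, B.A_fix e⟩, B.lift (B.mJ' hx.1) e, e⟩
  refine ⟨fun e => ?_, fun ε hε => Subtype.ext ?_, fun w hw => ?_, fun ψ w hw h0 => ?_⟩
  · have : ρ g (p + ρ a0 p) = 0 := congrArg Subtype.val e
    rw [B.f_eq hA N] at this
    exact smul_ne_zero (left_ne_zero_of_mul_eq_one ch_sq) (rne _ _ n0) this
  · obtain ⟨a, ha, e⟩ := B.ex_a ε hε ε.2
    rw [B.tau_eq e]; exact B.a_f ha0 hA N ha e
  · obtain ⟨b, hb, c, hc, e⟩ := mem_sup.1 (B.splitAz h2 (W := (F ∙ p) ⊔ F ∙ ρ a0 p)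
      (fun m _ hm => let ⟨c, hc⟩ := B.lineM M nv_mem.1 M.ne M.wt hm
        mem_sup_left (mem_span_singleton.2 ⟨c, hc.symm⟩))
      (fun m _ hm => let ⟨c, hc⟩ := (B.lineM M (smul_mem_Mset sT_u nv_mem.1) (rne ρ a0 M.ne)
          (B.wt_cj hA M.wt) (B.wt_sim (Or.inl cong_nv) hm) :)
        mem_sup_right (mem_span_singleton.2 ⟨c, hc.symm⟩)) (show ρ g⁻¹ w ∈ _ from fun x hx => by
          obtain ⟨ε, hε, e⟩ := lA x hx
          have := B.ch_lam ha0 hA N n0 (B.mJ' hx.1) e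
          rw [rcj, inv_inv, ← B.tau_eq e, hw ε hε, Submodule.coe_smul, map_smul, lm, ← this]
          congr 2; group))
    obtain ⟨α, rfl⟩ := mem_span_singleton.1 hb
    obtain ⟨β, rfl⟩ := mem_span_singleton.1 hc
    have := gJ w a0 ha0
    obtain ⟨-, -, e'⟩ := (B.sw ha0 hA N.s7 ha0 hA).resolve_left fun n =>
      e8_ne_neg _ _ (n.1.symm.trans sT_e8)
    rw [← e, map_add, map_smul, map_smul, e'] at this
    obtain rfl : β = α := sub_eq_zero.1 ((smul_eq_zero.1 (show (β - α) • (p - ρ a0 p) = 0 by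
      linear_combination (norm := module) this)).resolve_right n0)
    exact ⟨β, Subtype.ext (by rw [← rinv' ρ g w, ← e, ← smul_add, map_smul]; rfl)⟩
  · choose! φ h3 h4 using lA
    have h5 : ∀ x ∈ P ⊓ Cn j, ρ x (ρ g⁻¹ w) = ψ (φ x) • ρ g⁻¹ w := fun x hx => by
      rw [rcj, inv_inv, ← B.tau_eq (h4 x hx), hw _ (h3 x hx), Submodule.coe_smul, map_smul]
    have w0 : ρ g⁻¹ w ≠ 0 := rne _ _ fun e => h0 (Subtype.ext e)
    have h6 : ∀ x ∈ P ⊓ J, ψ (φ x) = 1 := fun x hx => smul_left_injective F w0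
      ((h5 x ⟨hx.1, B.JC hx.2⟩).symm.trans ((gJ w x hx.2).trans (one_smul _ _).symm))
    obtain ⟨y, m, m0, hm, e⟩ := B.exists_L h2 (L := (P ⊓ Cn j :)) (fun _ h => h.1)
      ⟨B.z_mem, mC.2 (B.zc B.j_mem).symm⟩ (h6 z B.zB) h5 w0
    have d : D4 y := by
      simpa using B.d4_of_ch h2 (w' := 0) fun x hx => (e x ⟨hx.1, B.JC hx.2⟩).trans ((h6 x hx).trans ch_zero.symm)
    have h7 : ∀ ε ∈ ES, ∃ a ∈ J, A ε a ∧ ψ ε = ch F R y (g⁻¹ * a * g) := fun ε hε => by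
      obtain ⟨a, ha, e'⟩ := B.ex_a ε hε ε.2
      have hx : g⁻¹ * a * g ∈ P ⊓ Cn j := ⟨B.mJ.1 ha, (B.gC (B.AC e')).1⟩
      refine ⟨a, ha, e', smul_left_injective F w0 ?_⟩
      simp only [e _ hx, ← h5 _ hx]
      rw [rmul, rinv', rmul, ← B.tau_eq e', hw ε hε, Submodule.coe_smul, map_smul]
    rcases M.ok m0 hm with s | ⟨x, hx, s⟩
    · exact Or.inl fun ε hε => let ⟨a, _, _, e⟩ := h7 ε hε; by rw [e, B.ch_sim s, ch_zero]
    obtain ⟨n, hn, rfl | rfl | rfl⟩ := M_cases hx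
    · obtain ⟨h, hh, e'⟩ := B.lift0 hn
      obtain ⟨n', e''⟩ := B.ex_g _ (mC.1 (B.gC' hh).2)
      have c := (B.gC (B.AC e')).2
      refine Or.inr ⟨⟨n', B.A_fix e''⟩, B.A_NV e'' c, fun ε hε => ?_⟩
      obtain ⟨a, ha, e1, e2⟩ := h7 ε hε
      rw [e2, B.ch_sim s, ← B.ch_cj e' (B.mJ.1 ha)]
      refine Eq.trans ?_ (B.ch_lam ha0 hA N n0 (B.normJ c ha) (B.A_cj e1 e''))
      congr 1; group
    exacts [absurd ((d.sim s.symm).of_smul hn.1) nv_d4.2.1, absurd ((d.sim s.symm).of_smul hn.1) nv_d4.2.2]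

/-- the minimal degree -/
theorem dim_min [Finite K] [FiniteDimensional F V] (h2 : (2 : F) ≠ 0) (ht : ρ t = 1) (hz : ρ z ≠ 1) :
    4371 ≤ finrank F V := by
  by_contra! hd
  obtain ⟨p, M⟩ := B.exists_rp h2 ht hz hd.le
  obtain ⟨a0, ha0, hA⟩ := B.ex_a sT (sg_mem _) sT_u
  have := (B.hu h2 ha0 hA M).dim23 h2
  have := M.dim
  omega

end BG

end CL.B43
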